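import Cfsg.Agent.Lib.GW.CaseB.Basics

/-!
# Gorenstein-Walter, case B: maximal subgroups over an involution centraliser that do not fuse

`Adm t a M`: `M` is maximal over `C(t)`, moves `t` neither to `a` nor to `ta`, and `t` does not centralise
`O(M)`.  Then `F*(M) = F(M)` has odd order.
-/

set_option autoImplicit false
set_option linter.style.haveILetI false
set_option linter.unusedSectionVars false

open Subgroup
open CfsgLib.Coprime.BenderPair CfsgLib.Coprime.BenderUniqueness

namespace CfsgLib.GW.CaseB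

universe u

variable {G : Type u} [Group G] [Finite G]

/-- The hypothesis on a maximal subgroup. -/
structure Adm (t a : G) (M : Subgroup G) : Prop where
  ht : orderOf t = 2
  ha : orderOf a = 2
  hne : t ≠ a
  hc : Commute t a
  coatom : IsCoatom M
  le : centralizer ({t} : Set G) ≤ M
  apart : ∀ m ∈ M, m * t * m⁻¹ ≠ a ∧ m * t * m⁻¹ ≠ t * a
  nc : ¬ ocN M ≤ centralizer ({t} : Set G)

/-- `F(O(M))` is self-centralising in `O(M)`. -/
theorem mem_fit_ocN {M : Subgroup G} {c : G} (hc : c ∈ ocN M)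
    (h : ∀ f ∈ fit (ocN M), Commute f c) : c ∈ fit (ocN M) := by
  haveI hsol : Group.IsSolvable (ocN M) := CfsgLib.FT.isSolvable_of_odd _ (odd_ocN M)
  have hfsc : fsc (ocN M) = fit (ocN M) := by
    rw [fsc, fit, Cfsg.generalizedFittingSubgroup, CfsgLib.Coprime.layer_eq_bot_of_isSolvable,
      bot_sup_eq]
  exact hfsc ▸ mem_fsc_of_commute hc fun f hf => (h f (hfsc ▸ hf)).eq

/-- The Fitting subgroup of `O(M)` centralised by an involution gives all of `O(M)` centralised. -/
theorem ocN_le_of_fit {M : Subgroup G} {z : G} (hz : orderOf z = 2) (hzM : z ∈ M)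
    (h : ∀ f ∈ fit (ocN M), Commute f z) : ocN M ≤ centralizer ({z} : Set G) := by
  intro k hk
  refine mem_centralizer_singleton_iff.2 (commute_of_cmt_eq_one ?_).eq
  set c := k * z * k⁻¹ * z⁻¹ with hc
  have hcK : c ∈ ocN M := commutator_mem (le_normalizer_ocN M hzM) hk
  have hnF : ocN M ≤ normalizer (fit (ocN M) : Set G) := by
    haveI := CfsgLib.Coprime.fitting_characteristic (G := ocN M)
    exact le_normalizer_map_subtype _ _
  have hcF : c ∈ fit (ocN M) := mem_fit_ocN hcK fun f hf => by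
    have h1 : Commute f z := h f hf
    have hf' : k⁻¹ * f * k ∈ fit (ocN M) := (mem_normalizer_iff''.1 (hnF hk) f).1 hf
    have h2 : Commute (k⁻¹ * f * k) z := h _ hf'
    have h3 : Commute f (k * z * k⁻¹) := by
      show f * (k * z * k⁻¹) = k * z * k⁻¹ * f
      calc f * (k * z * k⁻¹) = k * ((k⁻¹ * f * k) * z) * k⁻¹ := by group
        _ = k * z * k⁻¹ * f := by rw [h2.eq]; group
    exact h3.mul_right h1.inv_right
  exact eq_one_of_inv_fix (cmt_inverted hz) (h c hcF).symm (orderOf_odd_of_mem (odd_ocN M) hcK)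

/-- A normal subgroup of an overgroup of `C(t)` that omits `t` has Sylow 2-subgroups of order at most 2. -/
theorem sylow_dvd_two (hG : Min G) {t a : G} (ht : orderOf t = 2) (ha : orderOf a = 2) (hne' : t ≠ a)
    (hc : Commute t a) {M C : Subgroup G} (hle : centralizer ({t} : Set G) ≤ M) (hCM : C ≤ M)
    (hnC : M ≤ normalizer (C : Set G)) (htC : t ∉ C) (Q : Sylow 2 C) :
    Nat.card (Q : Subgroup C) ∣ 2 := by
  haveI : Fact (Nat.Prime 2) := ⟨Nat.prime_two⟩
  by_cases heven : Even (Nat.card C)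
  swap
  · obtain ⟨k, hk⟩ := Q.2.exists_card_eq
    rcases k with _ | k
    · rw [hk, pow_zero]
      exact one_dvd 2
    · exact absurd (even_iff_two_dvd.2 ((dvd_pow_self 2 k.succ_ne_zero).trans
        (hk ▸ card_subgroup_dvd_card (Q : Subgroup C)))) heven
  -- a Sylow 2-subgroup of `G` inside `M` with `t` central
  set V : Subgroup G := closure {t, a} with hV
  have hVp : IsPGroup 2 V := IsPGroup.of_card (n := 2) (by
    rw [four_card ht ha hne' hc]; norm_num)
  have hVC : V ≤ centralizer ({t} : Set G) := (closure_le _).2 (by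
    rintro x (rfl | rfl)
    · exact mem_centralizer_singleton_iff.2 rfl
    · exact mem_centralizer_singleton_iff.2 hc.symm.eq)
  obtain ⟨P, hVP, hPC⟩ := hG.exists_sylow_central ht hVp hVC
  have hPM : (P : Subgroup G) ≤ M := hPC.trans hle
  -- involutions of `C` are conjugate in `M` into `P`
  have hinto : ∀ W : Subgroup G, IsPGroup 2 W → W ≤ C →
      ∃ m ∈ M, ∀ w ∈ W, m * w * m⁻¹ ∈ C ⊓ (P : Subgroup G) := by
    intro W hW hWC
    have hWM : W ≤ M := hWC.trans hCM
    obtain ⟨Q, hQ⟩ := (hW.of_equiv (subgroupOfEquivOfLe hWM).symm).exists_le_sylow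
      (P := W.subgroupOf M)
    obtain ⟨m, hm⟩ := MulAction.exists_smul_eq M Q (P.subtype hPM)
    refine ⟨m, m.2, fun w hw => ⟨(mem_normalizer_iff.1 (hnC m.2) w).1 (hWC hw), ?_⟩⟩
    have h : (MulAut.conj m) ⟨w, hWM hw⟩ ∈ (P.subtype hPM : Subgroup M) := by
      rw [← hm, Sylow.coe_subgroup_smul]
      exact ⟨⟨w, hWM hw⟩, hQ (mem_subgroupOf.2 hw), rfl⟩
    exact h
  obtain ⟨i, hi⟩ := exists_prime_orderOf_dvd_card' 2 (even_iff_two_dvd.1 heven)
  obtain ⟨m₀, -, hm₀⟩ := hinto (zpowers (i : G)) (IsPGroup.of_card (n := 1) (by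
    rw [Nat.card_zpowers, Subgroup.orderOf_coe, hi]; norm_num)) (zpowers_le.2 i.2)
  have hne : C ⊓ (P : Subgroup G) ≠ ⊥ := fun e => by
    have h := hm₀ i (mem_zpowers _)
    rw [e, mem_bot, conj_eq_one_iff] at h
    rw [← Subgroup.orderOf_coe, h, orderOf_one] at hi
    exact absurd hi (by norm_num)
  haveI : Group.IsNilpotent (P : Subgroup G) := P.2.isNilpotent
  haveI : ((C ⊓ (P : Subgroup G)).subgroupOf (P : Subgroup G)).Normal :=
    (normal_subgroupOf_iff_le_normalizer inf_le_right).2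
      (CfsgLib.Coprime.inf_le_normalizer (hPM.trans hnC) le_normalizer)
  obtain ⟨⟨w, hw⟩, hw1⟩ := ne_bot_iff_exists_ne_one.1
    (CfsgLib.Coprime.nilpotent_inf_center_ne_bot ((C ⊓ (P : Subgroup G)).subgroupOf (P : Subgroup G))
      (fun e => hne (by rwa [subgroupOf_eq_bot, disjoint_iff, inf_eq_left.2 inf_le_right] at e)))
  obtain ⟨k, hk⟩ := P.2 w
  obtain ⟨j, -, hj⟩ := (Nat.dvd_prime_pow Nat.prime_two).1 (orderOf_dvd_of_pow_eq_one hk)
  have hcen : ∀ y ∈ (P : Subgroup G), Commute (w : G) y := fun y hy =>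
    (congrArg Subtype.val (mem_center_iff.1 hw.2 ⟨y, hy⟩)).symm
  have htP : t ∈ (P : Subgroup G) := hVP (subset_closure (by simp))
  have haP : a ∈ (P : Subgroup G) := hVP (subset_closure (by simp))
  have hzc : (w : G) = a ∨ (w : G) = t * a := by
    rcases hG.dih.four ht ha hne' hc (hcen t htP) (hcen a haP)
      ⟨j, by rw [Subgroup.orderOf_coe, hj]⟩ with h | h | h | h
    · exact absurd (Subtype.ext (Subtype.ext h)) hw1
    · exact absurd (h ▸ (mem_subgroupOf.1 hw.1).1) htC
    · exact Or.inl h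
    · exact Or.inr h
  set z : G := (w : G) with hz
  have hz2 : orderOf z = 2 := by
    rcases hzc with h | h <;> rw [h]
    · exact ha
    · exact invol_mul ht ha hne' hc
  have hzCP : z ∈ C ⊓ (P : Subgroup G) := mem_subgroupOf.1 hw.1
  -- `P` is the four group and meets `C` in `z`
  have hPV : ∀ y ∈ (P : Subgroup G), y = 1 ∨ y = t ∨ y = a ∨ y = t * a := fun y hy => by
    have hyt : Commute y t := mem_centralizer_singleton_iff.1 (hPC hy)
    have hya : Commute y a := by
      rcases hzc with h | h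
      · exact (h ▸ hcen y hy : Commute a y).symm
      · have h1 : Commute y (t * (t * a)) := hyt.mul_right (h ▸ hcen y hy : Commute (t * a) y).symm
        rwa [← mul_assoc, Invol.invol_mul_self ht, one_mul] at h1
    obtain ⟨k, hk⟩ := P.2 ⟨y, hy⟩
    obtain ⟨j, -, hj⟩ := (Nat.dvd_prime_pow Nat.prime_two).1
      (orderOf_dvd_of_pow_eq_one (congrArg Subtype.val hk))
    exact hG.dih.four ht ha hne' hc hyt hya ⟨j, hj⟩
  have hCP : ∀ y ∈ C ⊓ (P : Subgroup G), y = 1 ∨ y = z := fun y hy => by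
    have hab : ¬ (a ∈ C ∧ t * a ∈ C) := fun h => htC (by
      rw [show t = t * a * a by rw [mul_assoc, Invol.invol_mul_self ha, mul_one]]
      exact mul_mem h.2 h.1)
    rcases hPV y hy.2 with h | h | h | h
    · exact Or.inl h
    · exact absurd (h ▸ hy.1) htC
    all_goals rcases hzc with h' | h'
    · exact Or.inr (h.trans h'.symm)
    · exact absurd ⟨h ▸ hy.1, h' ▸ hzCP.1⟩ hab
    · exact absurd ⟨h' ▸ hzCP.1, h ▸ hy.1⟩ hab
    · exact Or.inr (h.trans h'.symm)
  obtain ⟨m, hmM, hm⟩ := hinto ((Q : Subgroup C).map C.subtype) (Q.2.map _) (map_subtype_le _)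
  let f : (Q : Subgroup C) →* G := (MulAut.conj m).toMonoidHom.comp (C.subtype.comp (Q : Subgroup C).subtype)
  have hf : Function.Injective f := fun x y e =>
    Subtype.ext (Subtype.ext ((MulAut.conj m).injective e))
  have hr : f.range ≤ zpowers z := by
    rintro _ ⟨q, rfl⟩
    rcases hCP _ (hm _ ⟨q, q.2, rfl⟩) with h | h
    · show m * ((q : C) : G) * m⁻¹ ∈ zpowers z
      rw [show m * ((q : C) : G) * m⁻¹ = 1 from h]
      exact one_mem _
    · show m * ((q : C) : G) * m⁻¹ ∈ zpowers z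
      rw [show m * ((q : C) : G) * m⁻¹ = z from h]
      exact mem_zpowers _
  rw [Nat.card_congr (MonoidHom.ofInjective hf).toEquiv]
  have h := card_dvd_of_le hr
  rwa [Nat.card_zpowers, hz2] at h

namespace Adm

variable {t a : G} {M : Subgroup G} (hA : Adm t a M)
include hA

theorem symm : Adm t (t * a) M where
  ht := hA.ht
  ha := invol_mul hA.ht hA.ha hA.hne hA.hc
  hne := fun e => Invol.invol_ne_one hA.ha (mul_eq_left.1 e.symm)
  hc := (Commute.refl t).mul_right hA.hc
  coatom := hA.coatom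
  le := hA.le
  apart := fun m hm => ⟨(hA.apart m hm).2, by
    rw [← mul_assoc, Invol.invol_mul_self hA.ht, one_mul]
    exact (hA.apart m hm).1⟩
  nc := hA.nc

theorem mem_of_commute {x : G} (h : Commute x t) : x ∈ M :=
  hA.le (mem_centralizer_singleton_iff.2 h.eq)

theorem t_mem : t ∈ M := hA.mem_of_commute (Commute.refl t)

theorem a_mem : a ∈ M := hA.mem_of_commute hA.hc.symm

theorem ne_top : M ≠ ⊤ := hA.coatom.1

theorem conj (e : G) : Adm (e * t * e⁻¹) (e * a * e⁻¹) (M.map (MulAut.conj e).toMonoidHom) where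
  ht := by rw [← MulAut.conj_apply, MulEquiv.orderOf_eq, hA.ht]
  ha := by rw [← MulAut.conj_apply, MulEquiv.orderOf_eq, hA.ha]
  hne := fun h => hA.hne (mul_left_cancel (mul_right_cancel h))
  hc := by rw [← MulAut.conj_apply, ← MulAut.conj_apply]; exact hA.hc.map _
  coatom := isCoatom_conj hA.coatom e
  le := by rw [← map_conj_centralizer]; exact map_mono hA.le
  apart := fun m hm => by
    obtain ⟨h1, h2⟩ := hA.apart _ (mem_conj.1 hm)
    refine ⟨fun h => h1 ?_, fun h => h2 ?_⟩
    · calc e⁻¹ * m * e * t * (e⁻¹ * m * e)⁻¹ = e⁻¹ * (m * (e * t * e⁻¹) * m⁻¹) * e := by group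
        _ = a := by rw [h]; group
    · calc e⁻¹ * m * e * t * (e⁻¹ * m * e)⁻¹ = e⁻¹ * (m * (e * t * e⁻¹) * m⁻¹) * e := by group
        _ = t * a := by rw [h]; group
  nc := fun h => hA.nc fun x hx => by
    have hin : e * x * e⁻¹ ∈ ocN (M.map (MulAut.conj e).toMonoidHom) := by
      refine le_ocN (map_mono (ocN_le M)) ((map_mono (le_normalizer_ocN M)).trans (le_normalizer_map _))
        ?_ ⟨x, hx, rfl⟩
      rw [← Nat.card_congr (equivMapOfInjective _ _ (MulAut.conj e).injective).toEquiv]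
      exact odd_ocN M
    have := mem_centralizer_singleton_iff.1 (h hin)
    refine mem_centralizer_singleton_iff.2 ?_
    calc x * t = e⁻¹ * (e * x * e⁻¹ * (e * t * e⁻¹)) * e := by group
      _ = t * x := by rw [this]; group

theorem norm_eq_self (hG : Min G) : normalizer (M : Set G) = M := by
  haveI := hG.simple
  exact norm_eq hA.coatom (fun e => Invol.invol_ne_one hA.ht (mem_bot.1 (e ▸ hA.t_mem))) le_rfl
    le_normalizer

theorem conj_ne (hG : Min G) {e : G} (he : e ∉ M) :
    M.map (MulAut.conj e).toMonoidHom ≠ M := fun h => he (by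
  rw [← hA.norm_eq_self hG, mem_normalizer_iff]
  intro x
  conv_rhs => rw [← h, mem_conj]
  rw [show e⁻¹ * (e * x * e⁻¹) * e = x by group])

theorem cyc_not_mem {e : G} (he : Cyc e t a) : e ∉ M := fun hm => (hA.apart e hm).1 he.1

theorem cyc_sq_not_mem {e : G} (he : Cyc e t a) : e * e ∉ M := fun hm => (hA.apart _ hm).2 (by
  rw [show e * e * t * (e * e)⁻¹ = e * (e * t * e⁻¹) * e⁻¹ by group, he.1, he.2])

theorem cyc_cube_mem {e : G} (he : Cyc e t a) : e * (e * e) ∈ M := hA.mem_of_commute (by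
  refine mul_inv_eq_iff_eq_mul.1 ?_
  calc e * (e * e) * t * (e * (e * e))⁻¹ = e * (e * (e * t * e⁻¹) * e⁻¹) * e⁻¹ := by group
    _ = t := by rw [he.1, he.2, he.third hA.ha hA.hc])

/-- `C_M(F(O(M))) ≤ O(M)`: no involution of `M` centralises it. -/
theorem centralizer_fit_le (hG : Min G) :
    M ⊓ centralizer (fit (ocN M) : Set G) ≤ ocN M := by
  haveI : Fact (Nat.Prime 2) := ⟨Nat.prime_two⟩
  have ht := hA.ht
  have hnF : M ≤ normalizer (fit (ocN M) : Set G) := by
    haveI := CfsgLib.Coprime.fitting_characteristic (G := ocN M)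
    exact (le_normalizer_ocN M).trans (CfsgLib.PGroup.le_normalizer_map_char _)
  set C : Subgroup G := M ⊓ centralizer (fit (ocN M) : Set G) with hC
  have hnC : M ≤ normalizer (C : Set G) := CfsgLib.Coprime.inf_le_normalizer le_normalizer
    (hnF.trans (CfsgLib.Coprime.normalizer_le_normalizer_centralizer _))
  have hfix : ∀ z ∈ C, orderOf z = 2 → ocN M ≤ centralizer ({z} : Set G) := fun z hz hz2 =>
    ocN_le_of_fit hz2 hz.1 fun f hf => mem_centralizer_iff.1 hz.2 f hf
  have htC : t ∉ C := fun h => hA.nc (hfix t h ht)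
  refine le_ocN inf_le_left hnC (Nat.not_even_iff_odd.1 fun heven => ?_)
  obtain ⟨i, hi⟩ := exists_prime_orderOf_dvd_card' 2 (even_iff_two_dvd.1 heven)
  set z : G := (i : G) with hz
  have hz2 : orderOf z = 2 := by rw [hz, Subgroup.orderOf_coe, hi]
  have hzC : z ∈ C := i.2
  obtain ⟨Q⟩ : Nonempty (Sylow 2 C) := inferInstance
  have hQd := sylow_dvd_two hG ht hA.ha hA.hne hA.hc hA.le inf_le_left hnC htC Q
  have hQc : IsCyclic (Q : Subgroup C) := by
    rcases (Nat.dvd_prime Nat.prime_two).1 hQd with h | h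
    · haveI : Subsingleton (Q : Subgroup C) := (Nat.card_eq_one_iff_unique.1 h).1
      exact isCyclic_of_subsingleton
    · exact isCyclic_of_prime_card h
  obtain ⟨R, D, hDn, hcompl⟩ := CfsgLib.Invol.hasNormalPComplement_two_of_isCyclic Q hQc
  haveI := hDn
  have hDodd : Odd (Nat.card D) := by
    rw [← hcompl.index_eq_card, ← Nat.not_even_iff_odd, even_iff_two_dvd]
    exact R.not_dvd_index
  have hD : D.map C.subtype ≤ ocN M := by
    refine (map_mono (GW.le_oddCore hDodd)).trans ?_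
    haveI := CfsgLib.Coprime.pPrimeCore_characteristic (G := C) 2
    refine le_ocN ((map_subtype_le _).trans inf_le_left)
      (hnC.trans (CfsgLib.PGroup.le_normalizer_map_char _)) ?_
    exact odd_ocN C
  have hkey : ∀ n ∈ M, n * z * n⁻¹ = z := by
    intro n hn
    have hi2 : orderOf (n * z * n⁻¹) = 2 := by rw [← MulAut.conj_apply, MulEquiv.orderOf_eq, hz2]
    have hiC : n * z * n⁻¹ ∈ C := (mem_normalizer_iff.1 (hnC hn) z).1 hzC
    have hR : Nat.card (R : Subgroup C) ∣ 2 := by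
      rw [Nat.card_congr (Sylow.equiv R Q).toEquiv]
      exact hQd
    have hmod : ∀ u : C, orderOf u = 2 → u ∉ D := fun u hu hD' => by
      have := orderOf_odd_of_mem hDodd hD'
      rw [hu] at this
      exact absurd this (by decide)
    have hidx : D.index = 2 := by
      rw [hcompl.symm.index_eq_card]
      rcases (Nat.dvd_prime Nat.prime_two).1 hR with h | h
      · exfalso
        refine hmod ⟨z, hzC⟩ (by rwa [← Subgroup.orderOf_coe]) ?_
        have : D = ⊤ := index_eq_one.1 (hcompl.symm.index_eq_card.trans h)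
        rw [this]; exact mem_top _
      · exact h
    have hprod : (⟨n * z * n⁻¹, hiC⟩ : C) * ⟨z, hzC⟩ ∈ D :=
      (mul_mem_iff_of_index_two hidx).2 (iff_of_false (hmod _ (by rwa [← Subgroup.orderOf_coe]))
        (hmod _ (by rwa [← Subgroup.orderOf_coe])))
    have hd : n * z * n⁻¹ * z ∈ ocN M := hD ⟨_, hprod, rfl⟩
    have hdz := mem_centralizer_singleton_iff.1 (hfix z hzC hz2 hd)
    have hinv : z * (n * z * n⁻¹ * z) * z⁻¹ = (n * z * n⁻¹ * z)⁻¹ := by
      rw [mul_assoc, mul_inv_cancel_right, mul_inv_rev (n * z * n⁻¹), Invol.invol_inv hz2,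
        Invol.invol_inv hi2]
    have h1 := eq_one_of_inv_fix hinv hdz.symm (orderOf_odd_of_mem (odd_ocN M) hd)
    rwa [← eq_inv_iff_mul_eq_one, Invol.invol_inv hz2] at h1
  have hMz : M = centralizer ({z} : Set G) := by
    refine eq_of_le_of_not_lt ?_ fun hlt => hG.centralizer_ne_top hz2 (hA.coatom.2 _ hlt)
    exact fun x hx => mem_centralizer_singleton_iff.2 (mul_inv_eq_iff_eq_mul.1 (hkey x hx))
  obtain ⟨g, hg⟩ := hG.isConj_invol ht hz2
  refine hA.nc ?_
  have hcard : Nat.card M = Nat.card (centralizer ({t} : Set G)) := by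
    rw [hMz, ← hg, ← map_conj_centralizer]
    exact (Nat.card_congr (equivMapOfInjective _ _ (MulAut.conj g).injective).toEquiv).symm
  rw [eq_of_le_of_card_ge hA.le hcard.le]
  exact ocN_le M

theorem fit_ocN_le : fit (ocN M) ≤ fit M := by
  haveI := CfsgLib.Coprime.fitting_characteristic (G := ocN M)
  have hn : M ≤ normalizer (fit (ocN M) : Set G) :=
    (le_normalizer_ocN M).trans (CfsgLib.PGroup.le_normalizer_map_char _)
  have hle : fit (ocN M) ≤ M := (map_subtype_le _).trans (ocN_le M)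
  haveI : ((fit (ocN M)).subgroupOf M).Normal := (normal_subgroupOf_iff_le_normalizer hle).2 hn
  have hnil : Group.IsNilpotent ((fit (ocN M)).subgroupOf M) := by
    haveI : Group.IsNilpotent (Cfsg.fittingSubgroup (ocN M)) := CfsgLib.Coprime.fitting_isNilpotent
    haveI : Group.IsNilpotent (fit (ocN M)) :=
      Group.nilpotent_of_surjective ((equivMapOfInjective (Cfsg.fittingSubgroup (ocN M))
        _ (ocN M).subtype_injective).toMonoidHom) (MulEquiv.surjective _)
    exact Group.nilpotent_of_surjective (subgroupOfEquivOfLe hle).symm.toMonoidHom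
      (MulEquiv.surjective _)
  exact (map_subgroupOf_eq_of_le hle).ge.trans (map_mono (CfsgLib.Coprime.le_fitting hnil))

/-- `C_M(F(M)) ≤ F(M)`. -/
theorem mem_fit_of_commute (hG : Min G) {x : G} (hx : x ∈ M) (h : ∀ f ∈ fit M, Commute f x) :
    x ∈ fit M := by
  have h' : ∀ f ∈ fit (ocN M), Commute f x := fun f hf => h f (hA.fit_ocN_le hf)
  exact hA.fit_ocN_le (mem_fit_ocN (hA.centralizer_fit_le hG
    ⟨hx, mem_centralizer_iff.2 fun f hf => (h' f hf).eq⟩) h')

theorem opc_two (hG : Min G) : opc 2 M = ⊥ := by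
  haveI : Fact (Nat.Prime 2) := ⟨Nat.prime_two⟩
  have hF : M ≤ normalizer (fit (ocN M) : Set G) := by
    haveI := CfsgLib.Coprime.fitting_characteristic (G := ocN M)
    exact (le_normalizer_ocN M).trans (CfsgLib.PGroup.le_normalizer_map_char _)
  have hle : fit (ocN M) ≤ ocN M := map_subtype_le _
  have hd : Disjoint (opc 2 M) (ocN M) := by
    refine disjoint_of_coprime ?_
    obtain ⟨k, hk⟩ := (isPGroup_opc 2 M).exists_card_eq
    rw [hk]
    exact Nat.Coprime.pow_left k (Nat.coprime_two_left.2 (odd_ocN M))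
  refine (eq_bot_iff_forall _).2 fun x hx => Subgroup.disjoint_def.1 hd hx ?_
  have hxM : x ∈ M := map_subtype_le _ hx
  refine hA.centralizer_fit_le hG ⟨hxM, mem_centralizer_iff.2 fun f hf => ?_⟩
  exact (commute_of_disjoint (hd.mono_right hle) hx hf (hF hxM)
    (le_normalizer_opc 2 M (ocN_le M (hle hf)))).eq.symm

theorem opc_le_ocN (hG : Min G) (q : ℕ) [Fact q.Prime] : opc q M ≤ ocN M := by
  rcases eq_or_ne q 2 with rfl | hq
  · rw [hA.opc_two hG]
    exact bot_le
  · exact le_ocN (map_subtype_le _) (le_normalizer_opc q M)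
      (odd_card_of_pGroup hq (isPGroup_opc q M))

theorem fit_le_ocN (hG : Min G) : fit M ≤ ocN M := fit_le fun q hq => by
  haveI := Fact.mk hq
  exact hA.opc_le_ocN hG q

theorem lay_eq_bot (hG : Min G) : lay M = ⊥ := by
  have hc : ∀ e ∈ lay M, ∀ f ∈ fit M, Commute e f := fun e he f hf => commute_lay_fit he hf
  have hle : lay M ≤ fit M := fun x hx =>
    hA.mem_fit_of_commute hG (map_subtype_le _ hx) fun f hf => (hc x hx f hf).symm
  rw [lay, Subgroup.map_eq_bot_iff_of_injective _ M.subtype_injective]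
  refine le_bot_iff.1 (sSup_le fun L hL => ?_)
  rw [← CfsgLib.Coprime.commutator_self_of_isComponent hL, commutator_le]
  intro x hx y hy
  have h := hc x (mem_map_of_mem _ (CfsgLib.Coprime.component_le_layer hL hx)) y
    (hle (mem_map_of_mem _ (CfsgLib.Coprime.component_le_layer hL hy)))
  rw [mem_bot, commutatorElement_eq_one_iff_mul_comm]
  exact Subtype.ext h.eq

theorem fsc_eq_fit (hG : Min G) : fsc M = fit M := by
  have h := hA.lay_eq_bot hG
  rw [lay, Subgroup.map_eq_bot_iff_of_injective _ M.subtype_injective] at h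
  rw [fsc, fit, Cfsg.generalizedFittingSubgroup, h, bot_sup_eq]

/-- `t` moves some `O_p(M)`. -/
theorem exists_moved (hG : Min G) :
    ∃ p : ℕ, p.Prime ∧ p ≠ 2 ∧ cmt (opc p M) t ≠ ⊥ := by
  by_contra! h
  have hall : fit M ≤ centralizer ({t} : Set G) := fit_le fun q hq => by
    haveI := Fact.mk hq
    rcases eq_or_ne q 2 with rfl | hq2
    · rw [hA.opc_two hG]
      exact bot_le
    · exact fun x hx => mem_centralizer_singleton_iff.2 (cmt_eq_bot.1 (h q hq hq2) x hx).eq
  have ht := hA.mem_fit_of_commute hG hA.t_mem fun f hf => mem_centralizer_singleton_iff.1 (hall hf)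
  have := orderOf_odd_of_mem (odd_ocN M) (hA.fit_le_ocN hG ht)
  rw [hA.ht] at this
  exact absurd this (by decide)

end Adm

/-- What `t` inverts in `O_p(M)` centralises `O_r(N)`, if `M` contains `C(t)` and `N` contains `t`. -/
theorem trick {t : G} (ht : orderOf t = 2) {M N : Subgroup G}
    (hle : centralizer ({t} : Set G) ≤ M) {p r : ℕ} [Fact p.Prime] [Fact r.Prime] (hp : p ≠ 2)
    (hr : r ≠ 2) (hrp : r ≠ p) (htN : t ∈ N) {z : G} (hzT : z ∈ opc p M) (hzN : z ∈ N)
    (hinv : t * z * t⁻¹ = z⁻¹) : ∀ x ∈ opc r N, Commute x z := by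
  have hz := orderOf_odd_of_mem (odd_card_of_pGroup hp (isPGroup_opc p M)) hzT
  have hcop : (orderOf z).Coprime r := by
    obtain ⟨k, hk⟩ := (isPGroup_opc p M) ⟨z, hzT⟩
    refine Nat.Coprime.coprime_dvd_left (orderOf_dvd_of_pow_eq_one (congrArg Subtype.val hk)) ?_
    exact Nat.Coprime.pow_left _ ((Nat.coprime_primes Fact.out Fact.out).2 hrp.symm)
  refine invert_centralizes (isPGroup_opc r N) hr ht (le_normalizer_opc r N htN)
    (le_normalizer_opc r N hzN) hz hcop hinv fun x hx hxt => ?_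
  exact commute_of_disjoint (IsPGroup.disjoint_of_ne r p hrp _ _ (isPGroup_opc r N) (isPGroup_opc p M))
    hx hzT (le_normalizer_opc p M (hle (mem_centralizer_singleton_iff.2 hxt.eq)))
    (le_normalizer_opc r N hzN)

/-- An overgroup of `C(t)` normalising a nontrivial odd subgroup inverted by `t` does not fuse `t` with a
commuting involution. -/
theorem ne_of_inverted (hG : Min G) {t a : G} (ht : orderOf t = 2) (ha : orderOf a = 2) (hne : t ≠ a)
    (hc : Commute t a) {N X : Subgroup G} (hle : centralizer ({t} : Set G) ≤ N) (hX : X ≠ ⊥)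
    (hodd : Odd (Nat.card X)) (hN : N ≤ normalizer (X : Set G))
    (hinv : ∀ x ∈ X, t * x * t⁻¹ = x⁻¹) {m : G} (hm : m ∈ N) : m * t * m⁻¹ ≠ a := by
  haveI : Fact (Nat.Prime 2) := ⟨Nat.prime_two⟩
  intro hma
  have hconj : ∀ n ∈ N, ∀ x ∈ X, (n * t * n⁻¹) * x * (n * t * n⁻¹)⁻¹ = x⁻¹ := fun n hn x hx => by
    have hx' : n⁻¹ * x * n ∈ X := (mem_normalizer_iff''.1 (hN hn) x).1 hx
    calc (n * t * n⁻¹) * x * (n * t * n⁻¹)⁻¹ = n * (t * (n⁻¹ * x * n) * t⁻¹) * n⁻¹ := by group
      _ = x⁻¹ := by rw [hinv _ hx']; group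
  have hta : ∀ x ∈ X, Commute (t * a) x := fun x hx => by
    refine mul_inv_eq_iff_eq_mul.1 ?_
    calc t * a * x * (t * a)⁻¹ = t * (a * x * a⁻¹) * t⁻¹ := by group
      _ = t * x⁻¹ * t⁻¹ := by rw [← hma, hconj m hm x hx]
      _ = x := by rw [hinv _ (inv_mem hx), inv_inv]
  -- it is enough that `ta` is conjugate in `N` to `t` or `a`
  have hfin : ∀ n ∈ N, n * t * n⁻¹ = t * a → False := fun n hn h => by
    refine hX ((eq_bot_iff_forall _).2 fun x hx => ?_)
    exact eq_one_of_inv_fix (u := t * a) (h ▸ hconj n hn x hx) (hta x hx) (orderOf_odd_of_mem hodd hx)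
  by_cases hbig : ∀ S : Sylow 2 G, Nat.card (S : Subgroup G) ≠ 4
  · obtain ⟨g, hg1, hg2⟩ := hG.exists_swap hbig ht ha hne hc
    have hgN : g ∈ N := hle (mem_centralizer_singleton_iff.2 (mul_inv_eq_iff_eq_mul.1 hg1))
    refine hfin (g * m) (mul_mem hgN hm) ?_
    rw [show g * m * t * (g * m)⁻¹ = g * (m * t * m⁻¹) * g⁻¹ by group, hma, hg2]
  push Not at hbig
  obtain ⟨S₀, hS₀⟩ := hbig
  have hWK := Invol.isKleinFour_closure_pair ht ha hne hc
  obtain ⟨T, hT⟩ := (IsPGroup.of_card (p := 2) (n := 2)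
    (by rw [hWK.card_four]; norm_num) : IsPGroup 2 (closure ({t, a} : Set G))).exists_le_sylow
  have hcard : Nat.card (T : Subgroup G) = 4 := (Nat.card_congr (Sylow.equiv T S₀).toEquiv).trans hS₀
  have hTW : closure ({t, a} : Set G) = (T : Subgroup G) :=
    eq_of_le_of_card_ge hT (by rw [hcard, hWK.card_four])
  haveI := Invol.klein_comm T (hTW ▸ hWK)
  have htT : t ∈ T := hT (subset_closure (by simp))
  have haT : a ∈ T := hT (subset_closure (by simp))
  have hga : m⁻¹⁻¹ * t * m⁻¹ = a := by rw [inv_inv, hma]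
  obtain ⟨n, hn, hn'⟩ := T.conj_eq_normalizer_conj_of_mem t m⁻¹ htT (by rw [hga]; exact haT)
  rw [hga] at hn'
  have hna : n⁻¹ * t * n⁻¹⁻¹ = a := by rw [inv_inv]; exact hn'.symm
  have hnN : n⁻¹ ∈ N := by
    have hcomm : m⁻¹ * n⁻¹ ∈ N := hle (mem_centralizer_singleton_iff.2 (mul_inv_eq_iff_eq_mul.1 (by
      calc m⁻¹ * n⁻¹ * t * (m⁻¹ * n⁻¹)⁻¹ = m⁻¹ * (n⁻¹ * t * n⁻¹⁻¹) * m := by group
        _ = t := by rw [hna, ← hma]; group)))
    simpa using mul_mem hm hcomm
  have hmem : n⁻¹ * a * n⁻¹⁻¹ ∈ closure ({t, a} : Set G) := by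
    rw [hTW]
    exact (mem_normalizer_iff.1 (inv_mem hn) a).1 haT
  rcases Invol.mem_klein ht ha hne hc hmem with h | h | h | h
  · exact Invol.invol_ne_one ha (conj_eq_one_iff.1 h)
  · exact hne (klein_no_swap T (inv_mem hn) htT hna h)
  · exact hne (mul_left_cancel (mul_right_cancel (hna.trans h.symm)))
  · refine hfin (n⁻¹ * n⁻¹) (mul_mem hnN hnN) ?_
    rw [show n⁻¹ * n⁻¹ * t * (n⁻¹ * n⁻¹)⁻¹ = n⁻¹ * (n⁻¹ * t * n⁻¹⁻¹) * n⁻¹⁻¹ by
      simp only [mul_inv_rev, mul_assoc], hna, h]

end CfsgLib.GW.CaseB
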