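import Cfsg.Agent.Lib.GW.CaseB.Fusion
import Cfsg.Agent.Lib.Coprime.BenderUniqueness

/-!
# Gorenstein-Walter, case B: elementary tools
-/

set_option autoImplicit false
set_option linter.style.haveILetI false
set_option linter.unusedSectionVars false

open Subgroup
open CfsgLib.Coprime.BenderPair CfsgLib.Coprime.BenderUniqueness

namespace CfsgLib.GW.CaseB

universe u

variable {G : Type u} [Group G] [Finite G]

/-! ### The odd core of a subgroup -/

/-- `O(M)` inside `G`. -/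
def ocN (M : Subgroup G) : Subgroup G := (Cfsg.oddCore M).map M.subtype

theorem ocN_le (M : Subgroup G) : ocN M ≤ M := map_subtype_le _

theorem odd_ocN (M : Subgroup G) : Odd (Nat.card (ocN M)) := by
  rw [ocN, ← Nat.card_congr (equivMapOfInjective _ _ (subtype_injective _)).toEquiv]
  exact odd_oddCore _

theorem le_normalizer_ocN (M : Subgroup G) : M ≤ normalizer (ocN M : Set G) := by
  haveI : (Cfsg.oddCore M).Normal := inferInstance
  exact le_normalizer_map_subtype M _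

theorem le_ocN {M A : Subgroup G} (hA : A ≤ M) (hn : M ≤ normalizer (A : Set G))
    (hodd : Odd (Nat.card A)) : A ≤ ocN M := by
  haveI : (A.subgroupOf M).Normal := (normal_subgroupOf_iff_le_normalizer hA).2 hn
  refine le_trans (map_subgroupOf_eq_of_le hA).ge (map_mono (GW.le_oddCore ?_))
  rwa [Nat.card_congr (subgroupOfEquivOfLe hA).toEquiv]

theorem orderOf_odd_of_mem {A : Subgroup G} (h : Odd (Nat.card A)) {x : G} (hx : x ∈ A) :
    Odd (orderOf x) := h.of_dvd_nat (Subgroup.orderOf_dvd_natCard A hx)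

theorem odd_card_of_pGroup {p : ℕ} [Fact p.Prime] (hp : p ≠ 2) {A : Subgroup G} (h : IsPGroup p A) :
    Odd (Nat.card A) := by
  obtain ⟨k, hk⟩ := h.exists_card_eq
  rw [hk]
  exact ((Fact.out : p.Prime).odd_of_ne_two hp).pow

/-- An element inverted and fixed by the same involution is trivial, if its order is odd. -/
theorem eq_one_of_inv_fix {u c : G} (hinv : u * c * u⁻¹ = c⁻¹) (hfix : Commute u c)
    (hodd : Odd (orderOf c)) : c = 1 := by
  rw [hfix.eq, mul_inv_cancel_right, eq_inv_iff_mul_eq_one, ← pow_two] at hinv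
  rw [← orderOf_eq_one_iff]
  rcases (Nat.dvd_prime Nat.prime_two).1 (orderOf_dvd_of_pow_eq_one hinv) with e | e
  · exact e
  · rw [e] at hodd
    exact absurd hodd (by decide)

/-- Elements of odd order commute with what their squares commute with. -/
theorem commute_of_sq {z x : G} (hodd : Odd (orderOf z)) (h : Commute x (z ^ 2)) : Commute x z := by
  obtain ⟨i, hi⟩ := hodd
  have hz : z = (z ^ 2) ^ (i + 1) := by
    rw [← pow_mul, show 2 * (i + 1) = orderOf z + 1 by omega, pow_succ, pow_orderOf_eq_one, one_mul]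
  rw [hz]
  exact h.pow_right _

/-- The product of two commuting involutions. -/
theorem invol_mul {a b : G} (ha : orderOf a = 2) (hb : orderOf b = 2) (hab : a ≠ b) (hc : Commute a b) :
    orderOf (a * b) = 2 := by
  haveI : Fact (Nat.Prime 2) := ⟨Nat.prime_two⟩
  refine orderOf_eq_prime ?_ fun h => hab ?_
  · rw [hc.mul_pow, sq, sq, Invol.invol_mul_self ha, Invol.invol_mul_self hb, mul_one]
  · rw [eq_inv_of_mul_eq_one_left h, Invol.invol_inv hb]

/-! ### Closures -/

theorem mem_normalizer_closure {s : Set G} {g : G}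
    (h : ∀ x ∈ s, g * x * g⁻¹ ∈ closure s) : g ∈ normalizer (closure s : Set G) := by
  have hle : (closure s).map (MulAut.conj g).toMonoidHom ≤ closure s := by
    rw [MonoidHom.map_closure, closure_le]
    rintro _ ⟨x, hx, rfl⟩
    simpa using h x hx
  have heq := eq_of_le_of_card_ge hle
    (Nat.card_congr (equivMapOfInjective _ _ (MulAut.conj g).injective).toEquiv).le
  refine mem_normalizer_iff.2 fun x => ⟨fun hx => heq.le ⟨x, hx, by simp⟩, fun hx => ?_⟩
  obtain ⟨y, hy, e⟩ := heq.ge hx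
  simp only [MulEquiv.coe_toMonoidHom, MulAut.conj_apply] at e
  rwa [← mul_left_cancel (mul_right_cancel e)]

/-- `[A, t]` -/
def cmt (A : Subgroup G) (t : G) : Subgroup G :=
  closure ((fun x => x * t * x⁻¹ * t⁻¹) '' (A : Set G))

theorem mem_cmt {A : Subgroup G} {t x : G} (hx : x ∈ A) : x * t * x⁻¹ * t⁻¹ ∈ cmt A t :=
  subset_closure ⟨x, hx, rfl⟩

theorem cmt_le {A X : Subgroup G} {t : G} (h : ∀ x ∈ A, x * t * x⁻¹ * t⁻¹ ∈ X) : cmt A t ≤ X := by
  rw [cmt, closure_le]
  rintro _ ⟨x, hx, rfl⟩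
  exact h x hx

theorem cmt_mono {A B : Subgroup G} (t : G) (h : A ≤ B) : cmt A t ≤ cmt B t :=
  cmt_le fun _ hx => mem_cmt (h hx)

theorem commutator_mem {A : Subgroup G} {t x : G} (ht : t ∈ normalizer (A : Set G)) (hx : x ∈ A) :
    x * t * x⁻¹ * t⁻¹ ∈ A := by
  rw [show x * t * x⁻¹ * t⁻¹ = x * (t * x⁻¹ * t⁻¹) by group]
  exact mul_mem hx ((mem_normalizer_iff.1 ht _).1 (inv_mem hx))

theorem cmt_le_self {A : Subgroup G} {t : G} (ht : t ∈ normalizer (A : Set G)) : cmt A t ≤ A :=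
  cmt_le fun _ hx => commutator_mem ht hx

theorem le_normalizer_cmt (A : Subgroup G) (t : G) : A ≤ normalizer (cmt A t : Set G) := by
  intro y hy
  refine mem_normalizer_closure ?_
  rintro _ ⟨x, hx, rfl⟩
  rw [show y * (x * t * x⁻¹ * t⁻¹) * y⁻¹ =
    (y * x * t * (y * x)⁻¹ * t⁻¹) * (y * t * y⁻¹ * t⁻¹)⁻¹ by group]
  exact mul_mem (mem_cmt (mul_mem hy hx)) (inv_mem (mem_cmt hy))

theorem mem_normalizer_cmt {A : Subgroup G} {t g : G} (hg : g ∈ normalizer (A : Set G))
    (hc : Commute g t) : g ∈ normalizer (cmt A t : Set G) := by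
  refine mem_normalizer_closure ?_
  rintro _ ⟨x, hx, rfl⟩
  have h1 : g * t * g⁻¹ = t := by rw [hc.eq, mul_inv_cancel_right]
  have h2 : g * (x * t * x⁻¹ * t⁻¹) * g⁻¹ =
      g * x * g⁻¹ * (g * t * g⁻¹) * (g * x * g⁻¹)⁻¹ * (g * t * g⁻¹)⁻¹ := by group
  rw [h2, h1]
  exact mem_cmt ((mem_normalizer_iff.1 hg x).1 hx)

theorem cmt_inverted {t x : G} (ht : orderOf t = 2) :
    t * (x * t * x⁻¹ * t⁻¹) * t⁻¹ = (x * t * x⁻¹ * t⁻¹)⁻¹ := by
  have h := Invol.invol_inv ht
  calc t * (x * t * x⁻¹ * t⁻¹) * t⁻¹ = t * x * t * x⁻¹ * (t⁻¹ * t⁻¹) := by group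
    _ = t * x * t⁻¹ * x⁻¹ := by rw [h, Invol.invol_mul_self ht, mul_one]
    _ = (x * t * x⁻¹ * t⁻¹)⁻¹ := by group

theorem commute_of_cmt_eq_one {t x : G} (h : x * t * x⁻¹ * t⁻¹ = 1) : Commute x t :=
  mul_inv_eq_iff_eq_mul.1 (mul_inv_eq_one.1 h)

theorem cmt_eq_bot {A : Subgroup G} {t : G} : cmt A t = ⊥ ↔ ∀ x ∈ A, Commute x t := by
  refine ⟨fun h x hx => commute_of_cmt_eq_one (mem_bot.1 (h ▸ mem_cmt hx)), fun h => le_bot_iff.1 ?_⟩
  refine cmt_le fun x hx => mem_bot.2 ?_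
  rw [(h x hx).eq, mul_inv_cancel_right, mul_inv_cancel]

theorem cmt_map (f : G →* G) (A : Subgroup G) (t : G) : (cmt A t).map f = cmt (A.map f) (f t) := by
  rw [cmt, cmt, MonoidHom.map_closure, Set.image_image, coe_map, Set.image_image]
  simp only [map_mul, map_inv]

/-! ### Coprime subgroups -/

/-- Two elements lying in trivially meeting, mutually normalised subgroups commute. -/
theorem commute_of_disjoint {A B : Subgroup G} (h : Disjoint A B) {x y : G} (hx : x ∈ A) (hy : y ∈ B)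
    (hxB : x ∈ normalizer (B : Set G)) (hyA : y ∈ normalizer (A : Set G)) : Commute x y := by
  have h1 : x * y * x⁻¹ * y⁻¹ ∈ A := by
    rw [show x * y * x⁻¹ * y⁻¹ = x * (y * x⁻¹ * y⁻¹) by group]
    exact mul_mem hx ((mem_normalizer_iff.1 hyA _).1 (inv_mem hx))
  have h2 : x * y * x⁻¹ * y⁻¹ ∈ B := mul_mem ((mem_normalizer_iff.1 hxB y).1 hy) (inv_mem hy)
  exact mul_inv_eq_iff_eq_mul.1 (mul_inv_eq_one.1 (Subgroup.disjoint_def.1 h h1 h2))

theorem disjoint_of_coprime {A B : Subgroup G} (h : (Nat.card A).Coprime (Nat.card B)) : Disjoint A B :=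
  disjoint_iff.2 (Subgroup.inf_eq_bot_of_coprime h)

/-- If an involution fixes only elements of `J`, it inverts modulo `J` what normalises `J`. -/
theorem inverts_mod {X J : Subgroup G} (hodd : Odd (Nat.card X)) {u : G} (hu : orderOf u = 2)
    (huX : u ∈ normalizer (X : Set G)) (hfix : ∀ x ∈ X, Commute x u → x ∈ J) {x : G} (hx : x ∈ X)
    (hxJ : x ∈ normalizer (J : Set G)) : u * x * u⁻¹ * x ∈ J := by
  have huu := Invol.invol_mul_self hu
  set c := x⁻¹ * (u * x * u⁻¹) with hc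
  have hcX : c ∈ X := mul_mem (inv_mem hx) ((mem_normalizer_iff.1 huX x).1 hx)
  have hcinv : u * c * u⁻¹ = c⁻¹ := by
    calc u * c * u⁻¹ = u * x⁻¹ * u⁻¹ * ((u * u) * x * (u * u)⁻¹) := by rw [hc]; group
      _ = c⁻¹ := by rw [huu, hc]; group
  obtain ⟨i, hi⟩ := orderOf_odd_of_mem hodd hcX
  set k := c ^ (i + 1) with hk
  have hk2 : k * k = c := by
    rw [hk, ← pow_add, show i + 1 + (i + 1) = orderOf c + 1 by omega, pow_succ, pow_orderOf_eq_one,
      one_mul]
  have hkinv : u * k * u⁻¹ = k⁻¹ := by rw [hk, ← conj_pow, hcinv, inv_pow]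
  have hjfix : Commute (x * k) u := by
    refine (mul_inv_eq_iff_eq_mul.1 ?_).symm
    calc u * (x * k) * u⁻¹ = x * c * (u * k * u⁻¹) := by rw [hc]; group
      _ = x * k := by rw [hkinv, ← hk2]; group
  have hjJ : x * k ∈ J := hfix _ (mul_mem hx (pow_mem hcX _)) hjfix
  have hkN : k ∈ normalizer (J : Set G) := by
    rw [show k = x⁻¹ * (x * k) by group]
    exact mul_mem (inv_mem hxJ) (le_normalizer hjJ)
  have hux : u * x * u⁻¹ = x * k * k := by
    calc u * x * u⁻¹ = x * c := by rw [hc, mul_inv_cancel_left]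
      _ = x * k * k := by rw [← hk2, mul_assoc]
  rw [hux, show x * k * k * x = (x * k) * (k * (x * k) * k⁻¹) by group]
  exact mul_mem hjJ ((mem_normalizer_iff.1 hkN _).1 hjJ)

/-- An involution that fixes only what an odd element it inverts fixes, makes the element act trivially. -/
theorem invert_centralizes {r : ℕ} [Fact r.Prime] {X : Subgroup G} (hX : IsPGroup r X) (hr : r ≠ 2)
    {u z : G} (hu : orderOf u = 2) (huX : u ∈ normalizer (X : Set G))
    (hzX : z ∈ normalizer (X : Set G)) (hz : Odd (orderOf z)) (hcop : (orderOf z).Coprime r)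
    (hinv : u * z * u⁻¹ = z⁻¹) (hfix : ∀ x ∈ X, Commute x u → Commute x z) :
    ∀ x ∈ X, Commute x z := by
  set J : Subgroup G := X ⊓ centralizer ({z} : Set G) with hJ
  suffices hXJ : J = X from fun x hx => mem_centralizer_singleton_iff.1 (hXJ.ge hx).2
  by_contra hne
  obtain ⟨x, hxN, hxJ⟩ := SetLike.exists_of_lt
    (CfsgLib.Coprime.lt_inf_normalizer hX (lt_of_le_of_ne inf_le_left hne))
  obtain ⟨hxX, hxJn⟩ := hxN
  have hJfix : ∀ y ∈ X, Commute y u → y ∈ J := fun y hy h =>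
    ⟨hy, mem_centralizer_singleton_iff.2 (hfix y hy h).eq⟩
  have hodd := odd_card_of_pGroup hr hX
  have hy : u * x * u⁻¹ * x ∈ J := inverts_mod hodd hu huX hJfix hxX hxJn
  have hyc : Commute (u * x * u⁻¹ * x) z := mem_centralizer_singleton_iff.1 hy.2
  have hzJ : z ∈ normalizer (J : Set G) :=
    CfsgLib.Coprime.inf_le_normalizer (A := zpowers z) (zpowers_le.2 hzX)
      (zpowers_le.2 (centralizer_le_normalizer _ (mem_centralizer_iff.2 fun y hy' =>
        mem_centralizer_singleton_iff.1 hy'))) (mem_zpowers z)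
  set w := z * x * z⁻¹ with hw
  have hwy : u * w * u⁻¹ * w ∈ J := inverts_mod hodd hu huX hJfix
    ((mem_normalizer_iff.1 hzX x).1 hxX) (mul_mem (mul_mem hzJ hxJn) (inv_mem hzJ))
  have hd : x⁻¹ * z ^ 2 * x * (z ^ 2)⁻¹ ∈ J := by
    have e1 : u * w * u⁻¹ = z⁻¹ * (u * x * u⁻¹) * z := by
      calc u * w * u⁻¹ = (u * z * u⁻¹) * (u * x * u⁻¹) * (u * z * u⁻¹)⁻¹ := by rw [hw]; group
        _ = z⁻¹ * (u * x * u⁻¹) * z := by rw [hinv, inv_inv]
    rw [e1, show z⁻¹ * (u * x * u⁻¹) * z * w =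
      (z⁻¹ * (u * x * u⁻¹ * x) * z) * (z⁻¹ * (x⁻¹ * z ^ 2 * x * (z ^ 2)⁻¹) * z) by
        rw [hw, pow_two]; group, mul_assoc z⁻¹ _ z, hyc.eq, inv_mul_cancel_left] at hwy
    have h2 := (J.mul_mem_cancel_left hy).1 hwy
    have h3 := mem_centralizer_singleton_iff.1 h2.2
    have e : x⁻¹ * z ^ 2 * x * (z ^ 2)⁻¹ = z⁻¹ * (x⁻¹ * z ^ 2 * x * (z ^ 2)⁻¹) * z := by
      calc _ = z * (z⁻¹ * (x⁻¹ * z ^ 2 * x * (z ^ 2)⁻¹) * z) * z⁻¹ := by group
        _ = _ := by rw [← h3, mul_inv_cancel_right]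
    rw [e]
    exact h2
  set d := x⁻¹ * z ^ 2 * x * (z ^ 2)⁻¹ with hdd
  have hdz : Commute d (z ^ 2) := Commute.pow_right (show Commute d z from mem_centralizer_singleton_iff.1 hd.2) 2
  have hd1 : d = 1 := by
    have hcon : x⁻¹ * z ^ 2 * x = d * z ^ 2 := by rw [hdd, inv_mul_cancel_right]
    have hp := congrArg (fun y => y ^ orderOf z) hcon
    simp only [hdz.mul_pow, ← pow_mul] at hp
    rw [show x⁻¹ * z ^ 2 * x = x⁻¹ * z ^ 2 * x⁻¹⁻¹ by group, conj_pow, ← pow_mul, mul_comm 2, pow_mul,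
      pow_orderOf_eq_one, one_pow, mul_one, inv_inv, inv_mul_cancel, mul_one] at hp
    obtain ⟨a, ha⟩ := hX ⟨d, hd.1⟩
    refine orderOf_eq_one_iff.1 (Nat.eq_one_of_dvd_coprimes (hcop.pow_right a) ?_ ?_)
    · exact orderOf_dvd_of_pow_eq_one hp.symm
    · exact orderOf_dvd_of_pow_eq_one (congrArg Subtype.val ha)
  refine hxJ ⟨hxX, mem_centralizer_singleton_iff.2 (commute_of_sq hz ?_).eq⟩
  have h := mul_inv_eq_one.1 (hdd.symm.trans hd1)
  show x * z ^ 2 = z ^ 2 * x
  calc x * z ^ 2 = x * (x⁻¹ * z ^ 2 * x) := by rw [h]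
    _ = z ^ 2 * x := by group

/-- A `p`-group has a fixed point on a nontrivial `p`-group it normalises. -/
theorem inf_centralizer_ne_bot {p : ℕ} [Fact p.Prime] {P Z : Subgroup G} (hP : IsPGroup p P)
    (hZ : IsPGroup p Z) (hne : Z ≠ ⊥) (hn : P ≤ normalizer (Z : Set G)) :
    Z ⊓ centralizer (P : Set G) ≠ ⊥ := by
  set U := P ⊔ Z with hU
  have hUp : IsPGroup p U := hP.to_sup_of_normal_right' hZ hn
  haveI : Group.IsNilpotent U := hUp.isNilpotent
  haveI : (Z.subgroupOf U).Normal :=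
    (normal_subgroupOf_iff_le_normalizer le_sup_right).2 (sup_le hn le_normalizer)
  have h := CfsgLib.Coprime.nilpotent_inf_center_ne_bot (Z.subgroupOf U) fun e => hne (by
    rwa [subgroupOf_eq_bot, disjoint_iff, inf_eq_left.2 le_sup_right] at e)
  obtain ⟨⟨w, hw⟩, hw1⟩ := (ne_bot_iff_exists_ne_one.1 h)
  intro e
  have hm : (w : G) ∈ Z ⊓ centralizer (P : Set G) :=
    ⟨mem_subgroupOf.1 hw.1, mem_centralizer_iff.2 fun y hy =>
      congrArg Subtype.val (mem_center_iff.1 hw.2 ⟨y, mem_sup_left hy⟩)⟩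
  rw [e, mem_bot] at hm
  exact hw1 (Subtype.ext (Subtype.ext hm))

/-! ### Maximal subgroups, four groups, conjugates -/

theorem exists_coatom {H : Subgroup G} (h : H ≠ ⊤) : ∃ M : Subgroup G, IsCoatom M ∧ H ≤ M :=
  (eq_top_or_exists_le_coatom H).resolve_left h

theorem normalizer_ne_top (hG : Min G) {A : Subgroup G} (h1 : A ≠ ⊥) (h2 : A ≠ ⊤) :
    normalizer (A : Set G) ≠ ⊤ := fun h =>
  (hG.eq_bot_or_top (normalizer_eq_top_iff.1 h)).elim h1 h2

theorem centralizer_le_singleton {A : Subgroup G} {g : G} (hg : g ∈ A) :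
    centralizer (A : Set G) ≤ centralizer ({g} : Set G) :=
  centralizer_le (Set.singleton_subset_iff.2 hg)

theorem four_card {t a : G} (ht : orderOf t = 2) (ha : orderOf a = 2) (hne : t ≠ a)
    (hc : Commute t a) : Nat.card (closure ({t, a} : Set G)) = 4 :=
  (Invol.isKleinFour_closure_pair ht ha hne hc).card_four

/-- An odd-order group normalised by a four group is generated by the centralisers of its involutions. -/
theorem le_of_four {t a : G} (ht : orderOf t = 2) (ha : orderOf a = 2) (hne : t ≠ a)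
    (hc : Commute t a) {T W : Subgroup G} (hodd : Odd (Nat.card T))
    (htT : t ∈ normalizer (T : Set G)) (haT : a ∈ normalizer (T : Set G))
    (h1 : ∀ x ∈ T, Commute x t → x ∈ W) (h2 : ∀ x ∈ T, Commute x a → x ∈ W)
    (h3 : ∀ x ∈ T, Commute x (t * a) → x ∈ W) : T ≤ W := by
  have hK := Invol.isKleinFour_closure_pair ht ha hne hc
  haveI : IsMulCommutative (closure ({t, a} : Set G)) :=
    IsPGroup.isMulCommutative_of_card_eq_prime_sq (p := 2) (by rw [hK.card_four]; norm_num)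
  refine CfsgLib.Coprime.le_of_centralizers_le (A := closure ({t, a} : Set G))
    hK.not_isCyclic ((closure_le _).2 ?_) ?_ fun v hv hv1 x hx => ?_
  · rintro x (rfl | rfl) <;> assumption
  · rw [hK.card_four, show 4 = 2 ^ 2 by norm_num]
    exact Nat.Coprime.pow_left 2 (Nat.coprime_two_left.2 hodd)
  · rcases Invol.mem_klein ht ha hne hc hv with rfl | rfl | rfl | rfl
    · exact absurd rfl hv1
    · exact h1 x hx.1 (mem_centralizer_singleton_iff.1 hx.2)
    · exact h2 x hx.1 (mem_centralizer_singleton_iff.1 hx.2)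
    · exact h3 x hx.1 (mem_centralizer_singleton_iff.1 hx.2)

theorem opc_map (q : ℕ) (M : Subgroup G) (f : G ≃* G) :
    opc q (M.map f.toMonoidHom) = (opc q M).map f.toMonoidHom := by
  show (Cfsg.pCore q (M.map (f : G →* G))).map (M.map (f : G →* G)).subtype = _
  rw [← CfsgLib.Coprime.map_pCore_equiv (f.subgroupMap M) q, opc, Subgroup.map_map, Subgroup.map_map]
  rfl

theorem mem_conj {g : G} {M : Subgroup G} {x : G} :
    x ∈ M.map (MulAut.conj g).toMonoidHom ↔ g⁻¹ * x * g ∈ M := by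
  simp only [mem_map, MulEquiv.coe_toMonoidHom, MulAut.conj_apply]
  refine ⟨?_, fun h => ⟨_, h, by group⟩⟩
  rintro ⟨y, hy, rfl⟩
  rwa [show g⁻¹ * (g * y * g⁻¹) * g = y by group]

theorem isCoatom_conj {M : Subgroup G} (hM : IsCoatom M) (g : G) :
    IsCoatom (M.map (MulAut.conj g).toMonoidHom) :=
  ((MulAut.conj g).mapSubgroup.isCoatom_iff M).2 hM

end CfsgLib.GW.CaseB
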