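import Cfsg.Agent.Lib.GW.CaseB.Pair

/-!
# Gorenstein-Walter, case B: the centraliser of `[C_T(a), t]`
-/

set_option autoImplicit false
set_option linter.style.haveILetI false
set_option linter.unusedSectionVars false

open Subgroup
open CfsgLib.Coprime.BenderPair CfsgLib.Coprime.BenderUniqueness

namespace CfsgLib.GW.CaseB

universe u

variable {G : Type u} [Group G] [Finite G]

/-- An element of `F(M)` of `s`-power order is trivial if `O_s(M) = 1`. -/
theorem eq_one_of_mem_fit {M : Subgroup G} {s : ℕ} [Fact s.Prime] (h : opc s M = ⊥) {x : G}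
    (hx : x ∈ fit M) {S : Subgroup G} (hS : IsPGroup s S) (hxS : x ∈ S) : x = 1 := by
  obtain ⟨x', hx', rfl⟩ := hx
  obtain ⟨o, ho, k, hk, hok⟩ := CfsgLib.Coprime.Large.exists_decomp_fitting (p := s) hx'
  rw [opc, Subgroup.map_eq_bot_iff_of_injective _ M.subtype_injective] at h
  rw [h, mem_bot] at ho
  rw [ho, one_mul] at hok
  exact CfsgLib.Coprime.Large.eq_one_of_both hS hxS (orderOf_coprime_xpc ⟨k, hk, by rw [hok]⟩)

/-- A nontrivial layer contains one of the involutions of a four group of `N`. -/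
theorem exists_four_mem_lay (hG : Min G) {N : Subgroup G} {t a : G} (ht : orderOf t = 2)
    (ha : orderOf a = 2) (hne : t ≠ a) (hc : Commute t a) (htN : t ∈ N) (haN : a ∈ N) :
    lay N = ⊥ ∨ t ∈ lay N ∨ a ∈ lay N ∨ t * a ∈ lay N := by
  haveI : Fact (Nat.Prime 2) := ⟨Nat.prime_two⟩
  haveI := CfsgLib.Coprime.layer_normal (G := N)
  by_cases heven : Even (Nat.card (Cfsg.layer N))
  swap
  · refine Or.inl (lay_eq_bot_of_cyclic fun Q => ?_)
    obtain ⟨k, hk⟩ := Q.2.exists_card_eq
    rcases k with _ | k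
    · haveI : Subsingleton (Q : Subgroup (lay N)) := (Nat.card_eq_one_iff_unique.1 (hk.trans (pow_zero 2))).1
      exact isCyclic_of_subsingleton
    · refine absurd (even_iff_two_dvd.2 ?_) heven
      rw [Nat.card_congr ((Cfsg.layer N).equivMapOfInjective N.subtype N.subtype_injective).toEquiv]
      exact (dvd_pow_self 2 k.succ_ne_zero).trans (hk ▸ card_subgroup_dvd_card (Q : Subgroup (lay N)))
  right
  obtain ⟨i, hi⟩ := exists_prime_orderOf_dvd_card' 2 (even_iff_two_dvd.1 heven)
  have hK := Invol.isKleinFour_closure_pair (x := (⟨t, htN⟩ : N)) (y := ⟨a, haN⟩)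
    (by rw [Subgroup.orderOf_mk, ht]) (by rw [Subgroup.orderOf_mk, ha])
    (fun e => hne (congrArg Subtype.val e)) (Subtype.ext hc.eq)
  obtain ⟨S, hS⟩ := (IsPGroup.of_card (p := 2) (n := 2) (by rw [hK.card_four]; norm_num) :
    IsPGroup 2 (closure ({⟨t, htN⟩, ⟨a, haN⟩} : Set N))).exists_le_sylow
  obtain ⟨Q, hQ⟩ := (IsPGroup.of_card (p := 2) (n := 1) (by
    rw [Nat.card_zpowers, Subgroup.orderOf_coe, hi]; norm_num) :
    IsPGroup 2 (zpowers (i : N))).exists_le_sylow
  obtain ⟨m, hm⟩ := MulAction.exists_smul_eq N Q S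
  have hj : (MulAut.conj m) (i : N) ∈ (S : Subgroup N) := by
    rw [← hm, Sylow.coe_subgroup_smul]
    exact ⟨(i : N), hQ (mem_zpowers _), rfl⟩
  have hjL : (MulAut.conj m) (i : N) ∈ Cfsg.layer N := Normal.conj_mem inferInstance _ i.2 m
  have hne' : Cfsg.layer N ⊓ (S : Subgroup N) ≠ ⊥ := fun e => by
    have h : (MulAut.conj m) (i : N) = 1 := mem_bot.1 (e ▸ ⟨hjL, hj⟩)
    rw [EmbeddingLike.map_eq_one_iff] at h
    rw [← Subgroup.orderOf_coe, h, orderOf_one] at hi
    exact absurd hi (by norm_num)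
  haveI : Group.IsNilpotent (S : Subgroup N) := S.2.isNilpotent
  obtain ⟨⟨w, hw⟩, hw1⟩ := ne_bot_iff_exists_ne_one.1
    (CfsgLib.Coprime.nilpotent_inf_center_ne_bot ((Cfsg.layer N).subgroupOf (S : Subgroup N))
      (fun e => hne' (by rwa [subgroupOf_eq_bot, disjoint_iff] at e)))
  obtain ⟨k, hk⟩ := S.2 w
  obtain ⟨j, -, hj'⟩ := (Nat.dvd_prime_pow Nat.prime_two).1 (orderOf_dvd_of_pow_eq_one hk)
  have hcen : ∀ y ∈ (S : Subgroup N), Commute ((w : N) : G) (y : G) := fun y hy =>
    (congrArg (fun v : (S : Subgroup N) => ((v : N) : G)) (mem_center_iff.1 hw.2 ⟨y, hy⟩)).symm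
  have hwL : ((w : N) : G) ∈ lay N := ⟨_, mem_subgroupOf.1 hw.1, rfl⟩
  rcases hG.dih.four ht ha hne hc (hcen ⟨t, htN⟩ (hS (subset_closure (by simp))))
    (hcen ⟨a, haN⟩ (hS (subset_closure (by simp))))
    ⟨j, by rw [Subgroup.orderOf_coe, Subgroup.orderOf_coe, hj']⟩ with h | h | h | h
  · exact absurd (Subtype.ext (Subtype.ext (Subtype.ext h))) hw1
  · exact Or.inl (h ▸ hwL)
  · exact Or.inr (Or.inl (h ▸ hwL))
  · exact Or.inr (Or.inr (h ▸ hwL))

namespace Good

variable {t a : G} {M : Subgroup G} {p : ℕ} (hg : Good t a M p)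
include hg

/-- `[C_T(a), t]`, if nontrivial, has its centraliser in `M`. -/
theorem centralizer_cmt_le (hG : Min G) {e : G} (he : Cyc e t a)
    (hY1 : cmt (opc p M ⊓ centralizer ({a} : Set G)) t ≠ ⊥) :
    centralizer (cmt (opc p M ⊓ centralizer ({a} : Set G)) t : Set G) ≤ M := by
  haveI := hG.simple
  haveI := Fact.mk hg.prime
  have hA := hg.adm
  have ht := hA.ht
  set T := opc p M with hT
  set A : Subgroup G := T ⊓ centralizer ({a} : Set G) with hAdef
  set Y := cmt A t with hY
  have hTt : t ∈ normalizer (T : Set G) := le_normalizer_opc p M hA.t_mem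
  have htA : t ∈ normalizer (A : Set G) :=
    CfsgLib.Coprime.inf_le_normalizer (A := zpowers t) (zpowers_le.2 hTt)
      (zpowers_le.2 (le_normalizer
        (mem_centralizer_singleton_iff.2 hA.hc.eq))) (mem_zpowers t)
  have hYA : Y ≤ A := cmt_le_self htA
  have haY : a ∈ centralizer (Y : Set G) :=
    mem_centralizer_iff.2 fun y hy => mem_centralizer_singleton_iff.1 (hYA hy).2
  have htY : t ∈ normalizer (Y : Set G) := mem_normalizer_cmt htA (Commute.refl t)
  have hYp : IsPGroup p Y := (isPGroup_opc p M).to_le (hYA.trans inf_le_left)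
  have hgen : ∀ x ∈ A, orderOf (x * t * x⁻¹ * t⁻¹) ≠ 0 ∧ Odd (orderOf (x * t * x⁻¹ * t⁻¹)) :=
    fun x hx => ⟨(orderOf_pos _).ne', orderOf_odd_of_mem
      (odd_card_of_pGroup hg.ne_two hYp) (mem_cmt hx)⟩
  -- the conjugate over `C(a)`
  have hA' : Adm a (t * a) (M.map (MulAut.conj e).toMonoidHom) := by
    have h := hA.conj e
    rwa [he.1, he.2] at h
  set Ma := M.map (MulAut.conj e).toMonoidHom with hMa
  have htMa : t ∈ Ma := hA'.mem_of_commute hA.hc
  have hYMa : Y ≤ Ma := fun y hy => hA'.mem_of_commute (mem_centralizer_singleton_iff.1 (hYA hy).2)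
  have hqY : ∀ q : ℕ, q.Prime → q ≠ p → opc q Ma ≤ centralizer (Y : Set G) := fun q hq hqp => by
    haveI := Fact.mk hq
    rcases eq_or_ne q 2 with rfl | hq2
    · rw [hA'.opc_two hG]
      exact bot_le
    rw [le_centralizer_iff]
    refine cmt_le fun x hx => mem_centralizer_iff.2 fun y hy => ?_
    exact (trick ht hA.le hg.ne_two hq2 hqp htMa ((hYA.trans inf_le_left) (mem_cmt hx))
      (hYMa (mem_cmt hx)) (cmt_inverted ht) y hy).eq
  have hYM : Y ≤ M := hYA.trans (inf_le_left.trans (map_subtype_le _))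
  obtain ⟨N, hN, hle⟩ := exists_coatom
    (normalizer_ne_top hG hY1 fun e => hA.ne_top (top_le_iff.1 (e ▸ hYM)))
  have hCN : centralizer (Y : Set G) ≤ N := (centralizer_le_normalizer _).trans hle
  have htN : t ∈ N := hle htY
  have haN : a ∈ N := hCN haY
  have hAN : A ≤ N := (le_normalizer_cmt A t).trans hle
  have hYF : Y ≤ fit M := (hYA.trans inf_le_left).trans (opc_le_fit p M)
  have hQN : fsc M ⊓ normalizer (Y : Set G) ≤ N := inf_le_right.trans hle
  have hYO : Y ≤ ocN N := cmt_le fun x hx =>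
    commutator_mem_ocN hG hN.1 ht hA.ha hA.hne hA.hc htN haN hg.ne_two
      (R := T ⊓ N) ((isPGroup_opc p M).to_le inf_le_left) inf_le_right
      (fun y hy hyt => CfsgLib.Coprime.inf_le_normalizer (A := zpowers y)
        (zpowers_le.2 (le_normalizer_opc p M (hA.mem_of_commute hyt)))
        (zpowers_le.2 (le_normalizer hy)) (mem_zpowers y)) ⟨hx.1, hAN hx⟩
  have hUO : ∀ x ∈ opc p Ma ⊓ N, x * a * x⁻¹ * a⁻¹ ∈ ocN N := fun x hx =>
    commutator_mem_ocN hG hN.1 hA.ha ht hA.hne.symm hA.hc.symm haN htN hg.ne_two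
      ((isPGroup_opc p Ma).to_le inf_le_left) inf_le_right
      (fun y hy hya => CfsgLib.Coprime.inf_le_normalizer (A := zpowers y)
        (zpowers_le.2 (le_normalizer_opc p Ma (hA'.mem_of_commute hya)))
        (zpowers_le.2 (le_normalizer hy)) (mem_zpowers y)) hx
  have hUN : opc p Ma ⊓ centralizer (Y : Set G) ≤ opc p Ma ⊓ N := inf_le_inf_left _ hCN
  -- no components
  have hlay : lay N = ⊥ := by
    have hcent := lay_le_centralizer_ocN N
    have htl : t ∉ lay N := fun h => hY1 (le_bot_iff.1 (cmt_le fun x hx => mem_bot.2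
      (eq_one_of_inv_fix (cmt_inverted ht) (mem_centralizer_iff.1 (hcent h) _ (hYO (mem_cmt hx))).symm
        (hgen x hx).2)))
    have hal : a ∉ lay N := fun h => by
      have hQ : zpowers a ≤ centralizer (opc p Ma : Set G) := by
        refine CfsgLib.Coprime.pq_lemma (P := Y) hYp ?_ (isPGroup_opc p Ma) ?_
          (hYMa.trans (le_normalizer_opc p Ma))
          (zpowers_le.2 (le_normalizer_opc p Ma hA'.t_mem)) ?_
        · rw [Nat.card_zpowers, hA.ha]
          exact (Nat.coprime_primes Nat.prime_two hg.prime).2 (Ne.symm hg.ne_two)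
        · rw [le_centralizer_iff, zpowers_le]
          exact haY
        · intro x hx
          rw [zpowers_eq_closure, centralizer_closure]
          refine mem_centralizer_singleton_iff.2 (commute_of_cmt_eq_one ?_).eq
          have hc := hUO x (hUN hx)
          exact eq_one_of_inv_fix (cmt_inverted hA.ha)
            (mem_centralizer_iff.1 (hcent h) _ hc).symm (orderOf_odd_of_mem (odd_ocN N) hc)
      have h2 : cmt (opc p Ma) a = ⊥ := cmt_eq_bot.2 fun x hx =>
        mem_centralizer_iff.1 (hQ (mem_zpowers a)) x hx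
      refine hg.moved ?_
      rw [hMa, opc_map, ← he.1, ← MulAut.conj_apply, ← MulEquiv.coe_toMonoidHom, ← cmt_map,
        Subgroup.map_eq_bot_iff_of_injective _ (MulAut.conj e).injective] at h2
      exact h2
    have htal : t * a ∉ lay N := fun h => hY1 (le_bot_iff.1 (cmt_le fun x hx => mem_bot.2 (by
      refine eq_one_of_inv_fix (cmt_inverted ht) ?_ (hgen x hx).2
      have h1 : Commute (t * a) (x * t * x⁻¹ * t⁻¹) :=
        (mem_centralizer_iff.1 (hcent h) _ (hYO (mem_cmt hx))).symm
      have h2 : Commute a (x * t * x⁻¹ * t⁻¹) :=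
        (mem_centralizer_iff.1 haY _ (mem_cmt hx)).symm
      have h3 := h1.mul_left h2
      rwa [mul_assoc, Invol.invol_mul_self hA.ha, mul_one] at h3)))
    rcases exists_four_mem_lay hG ht hA.ha hA.hne hA.hc htN haN with h | h | h | h
    exacts [h, absurd h htl, absurd h hal, absurd h htal]
  -- primes outside `π(F(M))`
  have hout : ∀ s : ℕ, s.Prime → opc s M = ⊥ → opc s N = ⊥ := by
    intro s hs hs0
    haveI := Fact.mk hs
    have hXM : opc s N ⊓ M = ⊥ := outside hYF hQN hs0
    rcases eq_or_ne s 2 with rfl | hs2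
    · exact opc_two_eq_bot ht hA.le htN hXM
    have hsp : s ≠ p := fun e => hg.opc_ne_bot (e ▸ hs0)
    set X := opc s N with hX
    have hodd := odd_card_of_pGroup hs2 (isPGroup_opc s N)
    have hinvt := opc_inverted ht hA.le htN hXM hs2
    have hXY : X ≤ centralizer (Y : Set G) := by
      rw [le_centralizer_iff]
      refine cmt_le fun x hx => mem_centralizer_iff.2 fun y hy => ?_
      exact (trick ht hA.le hg.ne_two hs2 hsp htN ((hYA.trans inf_le_left) (mem_cmt hx))
        (ocN_le N (hYO (mem_cmt hx))) (cmt_inverted ht) y hy).eq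
    have hsMa : opc s Ma = ⊥ := by rw [hMa, opc_map, hs0, Subgroup.map_bot]
    have hfixa : ∀ x ∈ X, Commute x a → x = 1 := by
      intro x hxX hxa
      have hxMa : x ∈ Ma := hA'.mem_of_commute hxa
      refine eq_one_of_mem_fit hsMa (hA'.mem_fit_of_commute hG hxMa ?_) (isPGroup_opc s N) hxX
      suffices h : fit Ma ≤ centralizer ({x} : Set G) from
        fun f hf => mem_centralizer_singleton_iff.1 (h hf)
      refine fit_le fun q hq => ?_
      haveI := Fact.mk hq
      by_cases hqp : q = p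
      · subst hqp
        have hQ : zpowers x ≤ centralizer (opc q Ma : Set G) := by
          refine CfsgLib.Coprime.pq_lemma (P := Y) hYp ?_ (isPGroup_opc q Ma) ?_
            (hYMa.trans (le_normalizer_opc q Ma)) (zpowers_le.2 (le_normalizer_opc q Ma hxMa)) ?_
          · rw [Nat.card_zpowers]
            obtain ⟨k, hk⟩ := isPGroup_opc s N ⟨x, hxX⟩
            exact Nat.Coprime.coprime_dvd_left (orderOf_dvd_of_pow_eq_one (congrArg Subtype.val hk))
              (Nat.Coprime.pow_left _ ((Nat.coprime_primes hs hq).2 hsp))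
          · rw [le_centralizer_iff, zpowers_le]
            exact hXY hxX
          · intro w hw
            rw [zpowers_eq_closure, centralizer_closure]
            exact mem_centralizer_singleton_iff.2 (commute_of_disjoint
              (IsPGroup.disjoint_of_ne q s (Ne.symm hsp) _ _ (isPGroup_opc q Ma) (isPGroup_opc s N))
              hw.1 hxX (le_normalizer_opc s N (hUN hw).2) (le_normalizer_opc q Ma hxMa)).eq
        exact fun f hf => mem_centralizer_singleton_iff.2 (mem_centralizer_iff.1 (hQ (mem_zpowers x)) f hf)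
      · by_cases hqs : q = s
        · rw [hqs, hsMa]
          exact bot_le
        exact fun f hf => mem_centralizer_singleton_iff.2 (commute_of_disjoint
          (IsPGroup.disjoint_of_ne q s hqs _ _ (isPGroup_opc q Ma) (isPGroup_opc s N)) hf hxX
          (le_normalizer_opc s N (hCN (hqY q hq hqp hf))) (le_normalizer_opc q Ma hxMa)).eq
    have hinva : ∀ x ∈ X, a * x * a⁻¹ = x⁻¹ := fun x hx =>
      eq_inv_of_mul_eq_one_left (mem_bot.1 (inverts_mod (J := (⊥ : Subgroup G)) hodd hA.ha
        (le_normalizer_opc s N haN) (fun y hy hya => mem_bot.2 (hfixa y hy hya)) hx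
        (by rw [normalizer_eq_top]; exact mem_top x)))
    have hkill : ∀ B : Subgroup G, B ≤ fit M → B ≤ centralizer (Y : Set G) → M ≤ normalizer (B : Set G) →
        ∀ u : G, (u = t ∨ u = a) → fit M ≤ normalizer (cmt B u : Set G) → cmt B u ≠ ⊥ → X = ⊥ := by
      intro B hBF hBY hnB u hu hnF hne
      have hu2 : orderOf u = 2 := by rcases hu with rfl | rfl; exacts [ht, hA.ha]
      have huM : u ∈ M := by rcases hu with rfl | rfl; exacts [hA.t_mem, hA.a_mem]
      have hut : Commute t u := by rcases hu with rfl | rfl; exacts [Commute.refl _, hA.hc]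
      have hua : Commute a u := by rcases hu with rfl | rfl; exacts [hA.hc.symm, Commute.refl _]
      have hsub : cmt B u ≤ B := cmt_le_self (hnB huM)
      have hCM : centralizer (cmt B u : Set G) ≤ M := (centralizer_le_normalizer _).trans
        (hg.normalizer_le hG (hsub.trans hBF) hne hnF (mem_normalizer_cmt (hnB hA.t_mem) hut)
          (mem_normalizer_cmt (hnB hA.a_mem) hua))
      have hX' : X ≤ centralizer (cmt B u : Set G) := by
        rw [le_centralizer_iff]
        refine cmt_le fun b hb => mem_centralizer_iff.2 fun w hw => ?_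
        set z := b * u * b⁻¹ * u⁻¹ with hz
        have hzodd := orderOf_odd_of_mem (odd_ocN M)
          (hA.fit_le_ocN hG (hBF (commutator_mem (hnB huM) hb)))
        have hzX : z ∈ normalizer (X : Set G) :=
          le_normalizer_opc s N (hCN (hBY (commutator_mem (hnB huM) hb)))
        have hinvu : ∀ v ∈ X, u * v * u⁻¹ = v⁻¹ := by
          rcases hu with rfl | rfl
          exacts [hinvt, hinva]
        have e1 : u * (z * w * z⁻¹) * u⁻¹ = (z * w * z⁻¹)⁻¹ := hinvu _ ((mem_normalizer_iff.1 hzX w).1 hw)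
        have e2 : u * (z * w * z⁻¹) * u⁻¹ = z⁻¹ * w⁻¹ * z := by
          calc u * (z * w * z⁻¹) * u⁻¹ = (u * z * u⁻¹) * (u * w * u⁻¹) * (u * z * u⁻¹)⁻¹ := by group
            _ = z⁻¹ * w⁻¹ * z := by rw [hinvu w hw, cmt_inverted hu2, inv_inv]
        rw [e1] at e2
        refine (commute_of_sq hzodd ?_).eq
        have h3 : Commute w⁻¹ (z ^ 2) := by
          show w⁻¹ * z ^ 2 = z ^ 2 * w⁻¹
          calc w⁻¹ * z ^ 2 = z * (z⁻¹ * w⁻¹ * z) * z := by rw [pow_two]; group
            _ = z ^ 2 * w⁻¹ := by rw [← e2, pow_two]; group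
        simpa using h3.inv_left
      rw [← hXM]
      exact (inf_eq_left.2 (hX'.trans hCM)).symm
    by_cases hq : ∀ q : ℕ, q.Prime → q ≠ p → ∀ x ∈ opc q M, Commute x t ∧ Commute x a
    swap
    · push Not at hq
      obtain ⟨q, hq, hqp, x, hx, hxc⟩ := hq
      haveI := Fact.mk hq
      obtain ⟨u, hu, hne⟩ : ∃ u, (u = t ∨ u = a) ∧ cmt (opc q M) u ≠ ⊥ := by
        by_contra! h
        exact hxc (cmt_eq_bot.1 (h t (Or.inl rfl)) x hx) (cmt_eq_bot.1 (h a (Or.inr rfl)) x hx)
      have hBY : opc q M ≤ centralizer (Y : Set G) := fun f hf => mem_centralizer_iff.2 fun y hy =>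
        (commute_opc hqp ((hYA.trans inf_le_left) hy) hf).eq
      refine hkill _ (opc_le_fit q M) hBY (le_normalizer_opc q M) u hu (fit_le fun r hr => ?_) hne
      haveI := Fact.mk hr
      by_cases hrq : r = q
      · subst hrq
        exact le_normalizer_cmt _ u
      · have huM : u ∈ M := by rcases hu with rfl | rfl; exacts [hA.t_mem, hA.a_mem]
        exact fun f hf => centralizer_le_normalizer _ (mem_centralizer_iff.2 fun y hy =>
          (commute_opc hrq (cmt_le_self (le_normalizer_opc q M huM) hy) hf).eq)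
    by_cases hz : ∀ x ∈ ctr p M, Commute x t ∧ Commute x a
    swap
    · push Not at hz
      obtain ⟨x, hx, hxc⟩ := hz
      obtain ⟨u, hu, hne⟩ : ∃ u, (u = t ∨ u = a) ∧ cmt (ctr p M) u ≠ ⊥ := by
        by_contra! h
        exact hxc (cmt_eq_bot.1 (h t (Or.inl rfl)) x hx) (cmt_eq_bot.1 (h a (Or.inr rfl)) x hx)
      have hBY : ctr p M ≤ centralizer (Y : Set G) :=
        inf_le_right.trans (centralizer_le (hYA.trans inf_le_left))
      have huM : u ∈ M := by rcases hu with rfl | rfl; exacts [hA.t_mem, hA.a_mem]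
      refine hkill _ (inf_le_left.trans (opc_le_fit p M)) hBY (le_normalizer_ctr p M) u hu
        (fit_le fun r hr => ?_) hne
      haveI := Fact.mk hr
      refine fun f hf => centralizer_le_normalizer _ (mem_centralizer_iff.2 fun y hy => ?_)
      have hy' := cmt_le_self (le_normalizer_ctr p M huM) hy
      by_cases hrp : r = p
      · subst hrp
        exact (mem_centralizer_iff.1 hy'.2 f hf).symm
      · exact (commute_opc hrp hy'.1 hf).eq
    -- everything is centralised by the four group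
    exfalso
    have hmem : ∀ x, Commute x t → Commute x a → x ∈ M.map (MulAut.conj (e * e)).toMonoidHom := by
      intro x hxt hxa
      refine mem_conj.2 (hA.mem_of_commute ?_)
      have h1 : (e * e) * t * (e * e)⁻¹ = t * a := by
        rw [show (e * e) * t * (e * e)⁻¹ = e * (e * t * e⁻¹) * e⁻¹ by group, he.1, he.2]
      show (e * e)⁻¹ * x * (e * e) * t = t * ((e * e)⁻¹ * x * (e * e))
      calc (e * e)⁻¹ * x * (e * e) * t = (e * e)⁻¹ * (x * (e * e * t * (e * e)⁻¹)) * (e * e) := by group
        _ = (e * e)⁻¹ * (e * e * t * (e * e)⁻¹ * x) * (e * e) := by rw [h1, (hxt.mul_right hxa).eq]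
        _ = t * ((e * e)⁻¹ * x * (e * e)) := by group
    refine hg.false_of_conj hG (hA.cyc_sq_not_mem he) le_rfl (ctr_ne_bot hg.opc_ne_bot)
      (le_normalizer_ctr p M hA.t_mem) (le_normalizer_ctr p M hA.a_mem)
      (fun x hx => hmem x (hz x hx).1 (hz x hx).2)
      (fun r hr hrp x hx => hmem x (hq r hr hrp x hx).1 (hq r hr hrp x hx).2)
  have hfit : fit N ≤ M := fit_le fun q hq => by
    haveI := Fact.mk hq
    by_cases h0 : opc q M = ⊥
    · rw [hout q hq h0]; exact bot_le
    obtain ⟨r, hr, hrq, hr1⟩ := hA.two_primes hG q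
    haveI := Fact.mk hr
    exact inside hYF hQN hA.coatom hrq h0 hr1
  have hfne : fit N ≠ ⊥ := fun e => by
    have hfsc : fsc N ≤ ⊥ := fsc_le hlay.le e.le
    refine Invol.invol_ne_one ht (mem_bot.1 (hfsc (mem_fsc_of_commute htN fun f hf => ?_)))
    rw [mem_bot.1 (hfsc hf), one_mul, mul_one]
  have hMN : Cfsg.leadsTo M N := ⟨Y, hY1, hYF, hQN⟩
  have hNM : Cfsg.leadsTo N M :=
    ⟨fit N, hfne, le_rfl, inf_le_left.trans (fsc_le (hlay.le.trans bot_le) hfit)⟩
  rcases symmetric hA.coatom hN hMN hNM with h | ⟨r, hr, h, -⟩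
  · exact hCN.trans h.ge
  · haveI := Fact.mk hr
    exact (hA.not_pGroup hG h).elim

end Good

end CfsgLib.GW.CaseB
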