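import Cfsg.Agent.Lib.GW.Setting
import Cfsg.Agent.Lib.Coprime.LBalance.Tools

/-!
# Gorenstein-Walter, case B: a cycle on the involutions of a four group
-/

set_option autoImplicit false
set_option linter.unusedSectionVars false

open Subgroup

namespace CfsgLib.GW

universe u

variable {G : Type u} [Group G] [Finite G]

/-- `e` maps `t → a → t a → t`. -/
def Cyc (e t a : G) : Prop := e * t * e⁻¹ = a ∧ e * a * e⁻¹ = t * a

namespace Cyc

variable {e t a : G}

theorem third (h : Cyc e t a) (ha : orderOf a = 2) (hc : Commute t a) : e * (t * a) * e⁻¹ = t := by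
  have h1 : e * (t * a) * e⁻¹ = (e * t * e⁻¹) * (e * a * e⁻¹) := by group
  rw [h1, h.1, h.2, ← mul_assoc, ← hc.eq, mul_assoc, Invol.invol_mul_self ha, mul_one]

/-- Moving a cycle on by an element centralising the four group. -/
theorem of_left {c : G} (h : Cyc e t a) (ht : Commute c t) (ha : Commute c a) : Cyc (c * e) t a := by
  have h1 : ∀ x : G, c * e * x * (c * e)⁻¹ = c * (e * x * e⁻¹) * c⁻¹ := fun x => by group
  refine ⟨?_, ?_⟩
  · rw [h1, h.1, ha.eq, mul_inv_cancel_right]
  · rw [h1, h.2, (ht.mul_right ha).eq, mul_inv_cancel_right]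

end Cyc

/-- An element normalising an abelian Sylow 2-subgroup does not swap two of its elements. -/
theorem klein_no_swap (T : Sylow 2 G) [IsMulCommutative (T : Subgroup G)] {m t a : G}
    (hm : m ∈ normalizer ((T : Subgroup G) : Set G)) (ht : t ∈ T) (hta : m * t * m⁻¹ = a)
    (hat : m * a * m⁻¹ = t) : t = a := by
  haveI : Fact (Nat.Prime 2) := ⟨Nat.prime_two⟩
  have hpow : ∀ i : ℕ, m ^ (2 * i) * t * (m ^ (2 * i))⁻¹ = t := by
    intro i
    induction i with
    | zero => simp
    | succ i ih =>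
      calc m ^ (2 * (i + 1)) * t * (m ^ (2 * (i + 1)))⁻¹
          = m * (m * (m ^ (2 * i) * t * (m ^ (2 * i))⁻¹) * m⁻¹) * m⁻¹ := by
            rw [show 2 * (i + 1) = 2 * i + 1 + 1 by ring, pow_succ', pow_succ']; group
        _ = t := by rw [ih, hta, hat]
  obtain ⟨j, o, ho, hjo⟩ := Nat.exists_eq_two_pow_mul_odd (orderOf_pos m).ne'
  obtain ⟨i, rfl⟩ := ho
  have hswap : m ^ (2 * i + 1) * t * (m ^ (2 * i + 1))⁻¹ = a := by
    calc m ^ (2 * i + 1) * t * (m ^ (2 * i + 1))⁻¹
        = m * (m ^ (2 * i) * t * (m ^ (2 * i))⁻¹) * m⁻¹ := by rw [pow_succ']; group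
      _ = a := by rw [hpow, hta]
  have hp : IsPGroup 2 (zpowers (m ^ (2 * i + 1))) := by
    have hd : (m ^ (2 * i + 1)) ^ (2 ^ j) = 1 := by
      rw [← pow_mul, mul_comm, ← hjo, pow_orderOf_eq_one]
    obtain ⟨l, -, hl⟩ := (Nat.dvd_prime_pow Nat.prime_two).1 (orderOf_dvd_of_pow_eq_one hd)
    exact IsPGroup.of_card (n := l) (by rw [Nat.card_zpowers, hl])
  have hle : zpowers (m ^ (2 * i + 1)) ≤ normalizer ((T : Subgroup G) : Set G) :=
    zpowers_le.2 (pow_mem hm _)
  have hin : m ^ (2 * i + 1) ∈ (T : Subgroup G) := by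
    rw [← T.3 (hp.to_sup_of_normal_right' T.2 hle) le_sup_right]
    exact mem_sup_left (mem_zpowers _)
  have hcomm : m ^ (2 * i + 1) * t = t * m ^ (2 * i + 1) :=
    congrArg Subtype.val (mul_comm' (⟨_, hin⟩ : (T : Subgroup G)) ⟨t, ht⟩)
  rwa [hcomm, mul_inv_cancel_right] at hswap

namespace Min

variable (hG : Min G)
include hG

/-- A 2-subgroup of `C(v)` lies in a Sylow 2-subgroup of `G` centralising `v`. -/
theorem exists_sylow_central {v : G} (hv : orderOf v = 2) {W : Subgroup G} (hWp : IsPGroup 2 W)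
    (hWC : W ≤ centralizer ({v} : Set G)) :
    ∃ P : Sylow 2 G, W ≤ P ∧ (P : Subgroup G) ≤ centralizer ({v} : Set G) := by
  haveI : Fact (Nat.Prime 2) := ⟨Nat.prime_two⟩
  obtain ⟨T⟩ : Nonempty (Sylow 2 G) := inferInstance
  obtain ⟨n, hn, ⟨eT⟩⟩ := hG.dih T
  haveI : Nontrivial (T : Subgroup G) := by
    rw [← Finite.one_lt_card_iff_nontrivial, Nat.card_congr eT.toEquiv, DihedralGroup.nat_card]
    omega
  haveI := T.2.center_nontrivial
  obtain ⟨z, hz⟩ := exists_prime_orderOf_dvd_card' 2 (show 2 ∣ Nat.card (center (T : Subgroup G)) from by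
    obtain ⟨k, hk⟩ := (T.2.to_subgroup (center (T : Subgroup G))).exists_card_eq
    rw [hk]
    refine dvd_pow_self 2 fun h0 => ?_
    subst h0
    have := Finite.one_lt_card (α := center (T : Subgroup G))
    omega)
  have hz2 : orderOf ((z : (T : Subgroup G)) : G) = 2 := by
    rw [Subgroup.orderOf_coe, Subgroup.orderOf_coe, hz]
  obtain ⟨g₀, hg₀⟩ := hG.isConj_invol hz2 hv
  set T' : Subgroup G := (T : Subgroup G).map (MulAut.conj g₀).toMonoidHom with hT'
  have hT'C : T' ≤ centralizer ({v} : Set G) := by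
    rintro _ ⟨x, hx, rfl⟩
    rw [mem_centralizer_singleton_iff, ← hg₀]
    have h1 : x * ((z : (T : Subgroup G)) : G) = ((z : (T : Subgroup G)) : G) * x :=
      congrArg Subtype.val (mem_center_iff.1 z.2 ⟨x, hx⟩)
    simp only [MulEquiv.coe_toMonoidHom, MulAut.conj_apply]
    calc g₀ * x * g₀⁻¹ * (g₀ * ((z : (T : Subgroup G)) : G) * g₀⁻¹)
        = g₀ * (x * ((z : (T : Subgroup G)) : G)) * g₀⁻¹ := by group
      _ = g₀ * ((z : (T : Subgroup G)) : G) * g₀⁻¹ * (g₀ * x * g₀⁻¹) := by rw [h1]; group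
  obtain ⟨P, hP⟩ := (hWp.of_equiv (subgroupOfEquivOfLe hWC).symm).exists_le_sylow
    (P := W.subgroupOf (centralizer ({v} : Set G)))
  obtain ⟨Q, hQ⟩ := ((T.2.map _).of_equiv (subgroupOfEquivOfLe hT'C).symm).exists_le_sylow
    (P := T'.subgroupOf (centralizer ({v} : Set G)))
  set P' : Subgroup G := (P : Subgroup (centralizer ({v} : Set G))).map (centralizer _).subtype
    with hP'
  have hP'p : IsPGroup 2 P' := P.2.map _
  obtain ⟨U, hU⟩ := hP'p.exists_le_sylow
  refine ⟨U, ?_, ?_⟩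
  · refine le_trans ?_ hU
    rw [← map_subgroupOf_eq_of_le hWC]
    exact map_mono hP
  · have he : P' = (U : Subgroup G) := eq_of_le_of_card_ge hU (by
      rw [hP', ← Nat.card_congr (equivMapOfInjective _ _ (subtype_injective _)).toEquiv,
        Nat.card_congr (Sylow.equiv P Q).toEquiv, Nat.card_congr (Sylow.equiv U T).toEquiv,
        Nat.card_congr ((T : Subgroup G).equivMapOfInjective (MulAut.conj g₀).toMonoidHom
          (MulAut.conj g₀).injective).toEquiv,
        ← Nat.card_congr (subgroupOfEquivOfLe hT'C).toEquiv]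
      exact card_le_of_le hQ)
    rw [← he]
    exact map_subtype_le _

/-- A four group is normalised by an element that swaps two of its involutions, unless it is a Sylow
2-subgroup. -/
theorem exists_swap (hbig : ∀ S : Sylow 2 G, Nat.card (S : Subgroup G) ≠ 4) {v w : G}
    (hv : orderOf v = 2) (hw : orderOf w = 2) (hne : v ≠ w) (hc : Commute v w) :
    ∃ g : G, g * v * g⁻¹ = v ∧ g * w * g⁻¹ = v * w := by
  haveI : Fact (Nat.Prime 2) := ⟨Nat.prime_two⟩
  set W : Subgroup G := closure {v, w} with hW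
  have hWK := Invol.isKleinFour_closure_pair hv hw hne hc
  have hWp : IsPGroup 2 W := IsPGroup.of_card (n := 2) (by rw [hWK.card_four]; norm_num)
  have hWC : W ≤ centralizer ({v} : Set G) := (closure_le _).2 (by
    rintro x (rfl | rfl)
    · exact mem_centralizer_singleton_iff.2 rfl
    · exact mem_centralizer_singleton_iff.2 hc.symm.eq)
  obtain ⟨P, hWP, hPC⟩ := hG.exists_sylow_central hv hWp hWC
  set P' : Subgroup G := (P : Subgroup G) with hP'
  have hP'p : IsPGroup 2 P' := P.2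
  have hlt : W < P' := lt_of_le_of_ne hWP fun e => hbig P (by rw [← hP', ← e, hWK.card_four])
  obtain ⟨x, hx, hxW⟩ := SetLike.exists_of_lt
    (CfsgLib.Coprime.lt_inf_normalizer hP'p hlt)
  have hxv : Commute x v := mem_centralizer_singleton_iff.1 (hPC hx.1)
  have hxw : x * w * x⁻¹ ∈ W :=
    (mem_normalizer_iff.1 hx.2 w).1 (subset_closure (by simp))
  refine ⟨x, by rw [hxv.eq, mul_inv_cancel_right], ?_⟩
  rcases Invol.mem_klein hv hw hne hc hxw with h | h | h | h
  · exact absurd (conj_eq_one_iff.1 h) (Invol.invol_ne_one hw)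
  · refine absurd ?_ hne
    have h1 : x * w * x⁻¹ = x * v * x⁻¹ := by rw [h, hxv.eq, mul_inv_cancel_right]
    exact (mul_left_cancel (mul_right_cancel h1)).symm
  · exfalso
    refine hxW ?_
    have hxw' : Commute x w := mul_inv_eq_iff_eq_mul.1 h
    obtain ⟨k, hk⟩ := hP'p ⟨x, hx.1⟩
    obtain ⟨j, -, hj⟩ := (Nat.dvd_prime_pow Nat.prime_two).1
      (orderOf_dvd_of_pow_eq_one (congrArg Subtype.val hk))
    have hvW : v ∈ W := subset_closure (by simp)
    have hwW : w ∈ W := subset_closure (by simp)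
    rcases hG.dih.four hv hw hne hc hxv hxw' ⟨j, hj⟩ with e | e | e | e <;> subst e
    · exact one_mem _
    · exact hvW
    · exact hwW
    · exact mul_mem hvW hwW
  · exact h

/-- The involutions of every four group are cycled by a normalising element. -/
theorem exists_cyc {t a : G} (ht : orderOf t = 2) (ha : orderOf a = 2) (hne : t ≠ a)
    (hc : Commute t a) : ∃ e : G, Cyc e t a := by
  classical
  haveI : Fact (Nat.Prime 2) := ⟨Nat.prime_two⟩
  by_cases hbig : ∀ S : Sylow 2 G, Nat.card (S : Subgroup G) ≠ 4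
  · obtain ⟨g, hg1, hg2⟩ := hG.exists_swap hbig ht ha hne hc
    obtain ⟨k, hk1, hk2⟩ := hG.exists_swap hbig ha ht hne.symm hc.symm
    have h1 : ∀ x : G, g * k * x * (g * k)⁻¹ = g * (k * x * k⁻¹) * g⁻¹ := fun x => by group
    refine ⟨g * k, ?_, by rw [h1, hk1, hg2]⟩
    rw [h1, hk2, show g * (a * t) * g⁻¹ = (g * a * g⁻¹) * (g * t * g⁻¹) by group, hg1, hg2, hc.eq,
      mul_assoc, Invol.invol_mul_self ht, mul_one]
  push Not at hbig
  obtain ⟨S₀, hS₀⟩ := hbig
  set W : Subgroup G := closure {t, a} with hW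
  have hWK := Invol.isKleinFour_closure_pair ht ha hne hc
  have hWp : IsPGroup 2 W := IsPGroup.of_card (n := 2) (by rw [hWK.card_four]; norm_num)
  obtain ⟨T, hT⟩ := hWp.exists_le_sylow
  have hcard : Nat.card (T : Subgroup G) = 4 := (Nat.card_congr (Sylow.equiv T S₀).toEquiv).trans hS₀
  have hTW : W = (T : Subgroup G) := eq_of_le_of_card_ge hT (by rw [hcard, hWK.card_four])
  have hK : IsKleinFour (T : Subgroup G) := hTW ▸ hWK
  haveI := Invol.klein_comm T hK
  have htT : t ∈ T := hT (subset_closure (by simp))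
  have haT : a ∈ T := hT (subset_closure (by simp))
  rcases Invol.klein_dichotomy T hK with hfix | hall
  · exfalso
    have h2 := isPGroup_of_normalPComplement hG.oddCore_eq_bot
      (CfsgLib.Fusion.hasNormalPComplement_of_normalizer_le_centralizer T fun g hg =>
        mem_centralizer_iff.2 fun u hu => (mul_inv_eq_iff_eq_mul.1 (hfix u hu g hg)).symm)
    haveI := h2.isNilpotent
    exact hG.not_solvable inferInstance
  obtain ⟨g, hg⟩ := isConj_iff.1 (hall t htT a haT (Invol.invol_ne_one ht) (Invol.invol_ne_one ha))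
  have hga : g⁻¹⁻¹ * t * g⁻¹ = a := by rw [inv_inv, hg]
  obtain ⟨n, hn, hn'⟩ := T.conj_eq_normalizer_conj_of_mem t g⁻¹ htT (by rw [hga]; exact haT)
  rw [hga] at hn'
  have hna : n⁻¹ * t * n⁻¹⁻¹ = a := by rw [inv_inv]; exact hn'.symm
  have hmem : n⁻¹ * a * n⁻¹⁻¹ ∈ W := by
    rw [hTW]
    exact (mem_normalizer_iff.1 (inv_mem hn) a).1 haT
  rcases Invol.mem_klein ht ha hne hc hmem with h | h | h | h
  · exact absurd (conj_eq_one_iff.1 h) (Invol.invol_ne_one ha)
  · exact absurd (klein_no_swap T (inv_mem hn) htT hna h) hne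
  · refine absurd ?_ hne
    exact mul_left_cancel (mul_right_cancel (hna.trans h.symm))
  · exact ⟨n⁻¹, hna, h⟩

end Min

end CfsgLib.GW
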