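import Cfsg.Agent.Lib.GW.CaseB.Admissible
import Cfsg.Agent.Lib.Qd.Unstable
import Cfsg.Agent.Lib.Fusion.ZJElementary
import Cfsg.Agent.Lib.Fusion.System.GroupCriteria
import Cfsg.Agent.Lib.CFun.OddSCNUnique

/-!
# Gorenstein-Walter, case B: the Fitting subgroup has two primes

If `F(M) = O_p(M)` then `M = N(ZJ(P))` controls `p`-fusion, and `t` centralises each `C_T(a)`.
-/

set_option autoImplicit false
set_option linter.style.haveILetI false
set_option linter.unusedSectionVars false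

open Subgroup
open CfsgLib.Coprime.BenderPair CfsgLib.Coprime.BenderUniqueness

namespace CfsgLib.GW.CaseB

universe u

variable {G : Type u} [Group G] [Finite G]

theorem centerThompsonOf_ne_bot {p : ℕ} [Fact p.Prime] {P : Subgroup G} (hP : IsPGroup p P)
    (hne : P ≠ ⊥) : Cfsg.centerThompsonOf p P ≠ ⊥ :=
  inf_centralizer_ne_bot (hP.to_le (CfsgLib.Fusion.thompsonSubgroupOf_le P))
    (hP.to_le (CfsgLib.Fusion.thompsonSubgroupOf_le P))
    (CfsgLib.Fusion.thompsonSubgroupOf_ne_bot hP hne) le_normalizer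

/-- `ZJ` of a subgroup of `M`, computed in `M` or in `G`. -/
theorem map_centerThompsonOf {p : ℕ} [Fact p.Prime] (M : Subgroup G) (P : Subgroup M) :
    (Cfsg.centerThompsonOf p P).map M.subtype = Cfsg.centerThompsonOf p (P.map M.subtype) := by
  have h := CfsgLib.Fusion.imgι_centerThompsonOf (p := p) (S := P) (ι := M.subtype.comp P.subtype)
    (M.subtype_injective.comp P.subtype_injective)
  rw [CfsgLib.Fusion.imgι, ← Subgroup.map_map, MonoidHom.range_comp, range_subtype] at h
  have hle : Cfsg.centerThompsonOf p P ≤ P := inf_le_left.trans (CfsgLib.Fusion.thompsonSubgroupOf_le P)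
  rwa [map_subgroupOf_eq_of_le hle] at h

namespace Adm

variable {t a : G} {M : Subgroup G} (hA : Adm t a M)
include hA

/-- A four group of `M` through `a` is conjugate to `⟨t, a⟩` by an element of `M` centralising `a`. -/
theorem four_conj (hG : Min G) {u : G} (hu : orderOf u = 2) (huM : u ∈ M) (hua : Commute u a)
    (hne : u ≠ a) : ∃ m ∈ M, Commute m a ∧ (m * u * m⁻¹ = t ∨ m * u * m⁻¹ = t * a) := by
  haveI : Fact (Nat.Prime 2) := ⟨Nat.prime_two⟩
  set C : Subgroup G := M ⊓ centralizer ({a} : Set G) with hC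
  set V : Subgroup G := closure {t, a} with hV
  have hVp : IsPGroup 2 V := IsPGroup.of_card (n := 2) (by
    rw [four_card hA.ht hA.ha hA.hne hA.hc]; norm_num)
  have hVC : V ≤ C := (closure_le _).2 (by
    rintro x (rfl | rfl)
    · exact ⟨hA.t_mem, mem_centralizer_singleton_iff.2 hA.hc.eq⟩
    · exact ⟨hA.a_mem, mem_centralizer_singleton_iff.2 rfl⟩)
  obtain ⟨P, hP⟩ := (hVp.of_equiv (subgroupOfEquivOfLe hVC).symm).exists_le_sylow (P := V.subgroupOf C)
  set P' : Subgroup G := (P : Subgroup C).map C.subtype with hP'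
  have hP'p : IsPGroup 2 P' := P.2.map _
  have hVP : V ≤ P' := (map_subgroupOf_eq_of_le hVC).ge.trans (map_mono hP)
  have hPV : P' = V := by
    by_contra hlt
    obtain ⟨x, hx, hxV⟩ := SetLike.exists_of_lt
      (CfsgLib.Coprime.lt_inf_normalizer hP'p (lt_of_le_of_ne hVP (Ne.symm hlt)))
    have hxC : x ∈ C := map_subtype_le _ hx.1
    have hxa : Commute x a := mem_centralizer_singleton_iff.1 hxC.2
    rcases Invol.mem_klein hA.ht hA.ha hA.hne hA.hc
      ((mem_normalizer_iff.1 hx.2 t).1 (subset_closure (by simp))) with h | h | h | h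
    · exact Invol.invol_ne_one hA.ht (conj_eq_one_iff.1 h)
    · refine hxV ?_
      obtain ⟨k, hk⟩ := hP'p ⟨x, hx.1⟩
      obtain ⟨j, -, hj⟩ := (Nat.dvd_prime_pow Nat.prime_two).1
        (orderOf_dvd_of_pow_eq_one (congrArg Subtype.val hk))
      have htV : t ∈ V := subset_closure (by simp)
      have haV : a ∈ V := subset_closure (by simp)
      rcases hG.dih.four hA.ht hA.ha hA.hne hA.hc (mul_inv_eq_iff_eq_mul.1 h) hxa ⟨j, hj⟩
        with e | e | e | e <;> rw [e]
      · exact one_mem _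
      · exact htV
      · exact haV
      · exact mul_mem htV haV
    · exact (hA.apart x hxC.1).1 h
    · exact (hA.apart x hxC.1).2 h
  have huC : u ∈ C := ⟨huM, mem_centralizer_singleton_iff.2 hua.eq⟩
  have haC : a ∈ C := hVC (subset_closure (by simp))
  have hW : IsPGroup 2 (closure ({u, a} : Set G)) :=
    IsPGroup.of_card (n := 2) (by rw [four_card hu hA.ha hne hua]; norm_num)
  have hWC : closure ({u, a} : Set G) ≤ C := (closure_le _).2 (by
    rintro x (rfl | rfl)
    exacts [huC, haC])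
  obtain ⟨Q, hQ⟩ := (hW.of_equiv (subgroupOfEquivOfLe hWC).symm).exists_le_sylow
    (P := (closure ({u, a} : Set G)).subgroupOf C)
  obtain ⟨m, hm⟩ := MulAction.exists_smul_eq C Q P
  have hmem : (m : G) * u * (m : G)⁻¹ ∈ V := by
    have h : (MulAut.conj m) ⟨u, huC⟩ ∈ (P : Subgroup C) := by
      rw [← hm, Sylow.coe_subgroup_smul]
      exact ⟨⟨u, huC⟩, hQ (mem_subgroupOf.2 (subset_closure (by simp))), rfl⟩
    rw [← hPV]
    exact ⟨_, h, rfl⟩
  have hma : Commute (m : G) a := mem_centralizer_singleton_iff.1 m.2.2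
  refine ⟨m, m.2.1, hma, ?_⟩
  rcases Invol.mem_klein hA.ht hA.ha hA.hne hA.hc hmem with h | h | h | h
  · exact absurd (conj_eq_one_iff.1 h) (Invol.invol_ne_one hu)
  · exact Or.inl h
  · exact absurd (by
      rw [← mul_left_inj (m : G)⁻¹, ← mul_right_inj (m : G), ← mul_assoc, h, ← mul_assoc, hma.eq,
        mul_inv_cancel_right]) hne
  · exact Or.inr h

/-- If `F(M) = O_p(M)`, then `t` centralises `C_T(a)`. -/
theorem commute_of_one_prime (hG : Min G) {p : ℕ} [Fact p.Prime] (hp : p ≠ 2) (hT : opc p M ≠ ⊥)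
    (hfit : fit M ≤ opc p M) : ∀ x ∈ opc p M, Commute x a → Commute x t := by
  set T := opc p M with hTdef
  obtain ⟨P⟩ : Nonempty (Sylow p M) := inferInstance
  set P' : Subgroup G := (P : Subgroup M).map M.subtype with hP'
  have hTP : T ≤ P' := map_mono (CfsgLib.Coprime.pCore_le_sylow P)
  set Z := Cfsg.centerThompsonOf p P' with hZ
  have hne : P' ≠ ⊥ := fun e => hT (le_bot_iff.1 (e ▸ hTP))
  have hZ1 : Z ≠ ⊥ := centerThompsonOf_ne_bot (P.2.map _) hne
  have hcl : centralizer (Cfsg.pCore p M : Set M) ≤ Cfsg.pCore p M := fun x hx => by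
    obtain ⟨y, hy, e⟩ := hfit (hA.mem_fit_of_commute hG x.2 fun f hf => by
      obtain ⟨f, hf', rfl⟩ := hfit hf
      exact ((show Commute f x from mem_centralizer_iff.1 hx f hf').map M.subtype))
    exact Subtype.ext e ▸ hy
  haveI hZn : (Cfsg.centerThompsonOf p (P : Subgroup M)).Normal :=
    CfsgLib.Fusion.centerThompsonOf_normal hp hcl (fun U _ hU => by_contra fun hcon => by
      obtain ⟨-, H, L, hn, -, he⟩ := CfsgLib.Qd.sections_of_not_isPStableOn hp U hU hcon
      exact hG.not_involves_slTwo hp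
        (CfsgLib.Fusion.involves_of_injective M.subtype M.subtype_injective ⟨H, L, hn, he⟩)) P
  haveI := hG.simple
  have hNZ : normalizer (Z : Set G) = M := by
    rw [hZ, hP', ← map_centerThompsonOf]
    refine norm_eq hA.coatom ?_ (map_subtype_le _) (le_normalizer_map_subtype M _)
    rw [map_centerThompsonOf]
    exact hZ1
  have hP'M : P' ≤ M := map_subtype_le _
  obtain ⟨U, hU⟩ : ∃ U : Sylow p G, (U : Subgroup G) = P' := by
    obtain ⟨U, hU⟩ := (P.2.map M.subtype : IsPGroup p P').exists_le_sylow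
    refine ⟨U, le_antisymm ?_ hU⟩
    by_contra hlt
    obtain ⟨x, hx, hxP⟩ := SetLike.exists_of_lt (CfsgLib.Coprime.lt_inf_normalizer U.2
      (lt_of_le_not_ge hU hlt))
    have hxM : x ∈ M := by
      rw [← hNZ]
      exact CfsgLib.CFun.normalizer_le_normalizer_centerThompsonOf P' hx.2
    have hbig : (P : Subgroup M) ≤ (U : Subgroup G).subgroupOf M :=
      fun y hy => mem_subgroupOf.2 (hU ⟨y, hy, rfl⟩)
    have := P.3 U.2.comap_subtype hbig
    exact hxP ⟨⟨x, hxM⟩, this ▸ (mem_subgroupOf.2 hx.1 : (⟨x, hxM⟩ : M) ∈ (U : Subgroup G).subgroupOf M),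
      rfl⟩
  set A : Subgroup G := T ⊓ centralizer ({a} : Set G) with hAdef
  have hAp : IsPGroup p A := (isPGroup_opc p M).to_le inf_le_left
  obtain ⟨g, hg⟩ := hG.isConj_invol hA.ha hA.ht
  have hgA : A.map (MulAut.conj g).toMonoidHom ≤ M := by
    refine le_trans ?_ hA.le
    rw [← hg, ← map_conj_centralizer]
    exact map_mono inf_le_right
  obtain ⟨Q, hQ⟩ := ((hAp.map _).of_equiv (subgroupOfEquivOfLe hgA).symm).exists_le_sylow
    (P := (A.map (MulAut.conj g).toMonoidHom).subgroupOf M)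
  obtain ⟨m, hm⟩ := MulAction.exists_smul_eq M Q P
  have hconj : ∀ x ∈ A, (m : G) * g * x * ((m : G) * g)⁻¹ ∈ P' := fun x hx => by
    have hxM : g * x * g⁻¹ ∈ M := hgA ⟨x, hx, rfl⟩
    refine ⟨MulAut.conj m ⟨g * x * g⁻¹, hxM⟩, ?_, ?_⟩
    · rw [← hm, Sylow.coe_subgroup_smul]
      exact ⟨⟨g * x * g⁻¹, hxM⟩, hQ (mem_subgroupOf.2 ⟨x, hx, rfl⟩), rfl⟩
    · simp [MulAut.conj_apply, mul_assoc]
  obtain ⟨n, hn, hnA⟩ := hG.zj_control hp U (A : Set G) (fun x hx => hU.ge (hTP hx.1))
    ((m : G) * g)⁻¹ (by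
      rintro _ ⟨x, hx, rfl⟩
      show _ ∈ (U : Subgroup G)
      simp only [hU, inv_inv]
      exact hconj x hx)
  rw [hU, hNZ] at hn
  set k := (m : G)⁻¹ * n⁻¹ with hk
  have hkM : k ∈ M := mul_mem (inv_mem m.2) (inv_mem hn)
  have hkA : ∀ x ∈ A, k * x * k⁻¹ = g * x * g⁻¹ := fun x hx => by
    calc k * x * k⁻¹ = (m : G)⁻¹ * (n⁻¹ * x * n) * m := by rw [hk]; group
      _ = g * x * g⁻¹ := by rw [hnA x hx]; group
  set a' := k * a * k⁻¹ with ha'
  have ha'2 : orderOf a' = 2 := by rw [ha', ← MulAut.conj_apply, MulEquiv.orderOf_eq, hA.ha]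
  set d := t * a' with hd
  have htt := Invol.invol_mul_self hA.ht
  have haa := Invol.invol_mul_self ha'2
  have hd1 : t * d * t⁻¹ = d⁻¹ := by
    rw [hd, mul_inv_rev, Invol.invol_inv hA.ht, Invol.invol_inv ha'2, ← mul_assoc, htt, one_mul]
  rcases (orderOf d).even_or_odd with ⟨i, hi⟩ | ⟨i, hi⟩
  swap
  · exfalso
    have hdM : d ∈ M := mul_mem hA.t_mem (mul_mem (mul_mem hkM hA.a_mem) (inv_mem hkM))
    have h1 : t * d ^ i * t⁻¹ = (d ^ i)⁻¹ := by rw [← conj_pow, hd1, inv_pow]
    have h2 : d ^ i * t * (d ^ i)⁻¹ = a' := by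
      have h3 : d ^ i * t = t * (d ^ i)⁻¹ := by
        rw [← h1, Invol.invol_inv hA.ht]
        simp only [← mul_assoc, htt, one_mul]
      rw [h3, mul_assoc, ← mul_inv_rev, ← pow_add]
      have h4 : (d ^ (i + i))⁻¹ = d := inv_eq_of_mul_eq_one_left (by
        rw [← pow_succ', show i + i + 1 = orderOf d by omega, pow_orderOf_eq_one])
      rw [h4, hd, ← mul_assoc, htt, one_mul]
    refine (hA.apart (k⁻¹ * d ^ i) (mul_mem (inv_mem hkM) (pow_mem hdM i))).1 ?_
    rw [show k⁻¹ * d ^ i * t * (k⁻¹ * d ^ i)⁻¹ = k⁻¹ * (d ^ i * t * (d ^ i)⁻¹) * k by group, h2, ha']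
    group
  have hdne : d ≠ 1 := fun e => by
    rw [hd, ← eq_inv_iff_mul_eq_one, Invol.invol_inv ha'2] at e
    refine (hA.apart k⁻¹ (inv_mem hkM)).1 ?_
    rw [e, ha']
    group
  have hipos : i ≠ 0 := fun e => (orderOf_pos d).ne' (by omega)
  set u := d ^ i with hu
  have hu2 : orderOf u = 2 := by
    rw [hu, orderOf_pow' _ hipos, hi, ← two_mul, Nat.gcd_mul_left_left,
      Nat.mul_div_cancel _ (Nat.pos_of_ne_zero hipos)]
  have hut : Commute u t := by
    have h1 : t * u * t⁻¹ = u⁻¹ := by rw [hu, ← conj_pow, hd1, inv_pow]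
    rw [Invol.invol_inv hu2] at h1
    exact (mul_inv_eq_iff_eq_mul.1 h1).symm
  have hua : Commute u a' := by
    have h1 : Commute u (t * d) := hut.mul_right (Commute.pow_self d i)
    rwa [hd, ← mul_assoc, htt, one_mul] at h1
  have hune : u ≠ a' := fun e => by
    have h1 : Commute t a' := (e ▸ hut).symm
    have h2 : d ^ 2 = 1 := by rw [hd, h1.mul_pow, pow_two, pow_two, htt, haa, mul_one]
    have h3 := Nat.le_of_dvd two_pos (orderOf_dvd_of_pow_eq_one h2)
    rw [hu, show i = 1 by omega, pow_one, hd] at e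
    exact Invol.invol_ne_one hA.ht (mul_eq_right.1 e)
  have huA : ∀ x ∈ A, Commute u (k * x * k⁻¹) := fun x hx => by
    refine Commute.pow_left (Commute.mul_left ?_ ?_) i
    · rw [hkA x hx, ← hg, ← MulAut.conj_apply, ← MulAut.conj_apply]
      exact (show Commute a x from (mem_centralizer_singleton_iff.1 hx.2).symm).map _
    · rw [ha', ← MulAut.conj_apply, ← MulAut.conj_apply]
      exact (show Commute a x from (mem_centralizer_singleton_iff.1 hx.2).symm).map _
  set v := k⁻¹ * u * k with hv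
  have hv2 : orderOf v = 2 := by
    rw [hv, show k⁻¹ * u * k = MulAut.conj k⁻¹ u by simp, MulEquiv.orderOf_eq, hu2]
  have hvM : v ∈ M := by
    refine mul_mem (mul_mem (inv_mem hkM) ?_) hkM
    exact pow_mem (mul_mem hA.t_mem (mul_mem (mul_mem hkM hA.a_mem) (inv_mem hkM))) i
  have hva : Commute v a := by
    rw [show a = k⁻¹ * a' * k by rw [ha']; group, hv]
    show k⁻¹ * u * k * (k⁻¹ * a' * k) = k⁻¹ * a' * k * (k⁻¹ * u * k)
    calc k⁻¹ * u * k * (k⁻¹ * a' * k) = k⁻¹ * (u * a') * k := by group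
      _ = _ := by rw [hua.eq]; group
  have hvne : v ≠ a := fun e => hune (by
    calc u = k * v * k⁻¹ := by rw [hv]; group
      _ = a' := by rw [e])
  have hvA : ∀ x ∈ A, Commute v x := fun x hx => by
    show v * x = x * v
    calc v * x = k⁻¹ * (u * (k * x * k⁻¹)) * k := by rw [hv]; group
      _ = x * v := by rw [(huA x hx).eq, hv]; group
  obtain ⟨m', hm'M, hm'a, hm'v⟩ := hA.four_conj hG hv2 hvM hva hvne
  have hB : A.map (MulAut.conj m').toMonoidHom ≤ A ⊓ centralizer ({t} : Set G) := by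
    rintro _ ⟨x, hx, rfl⟩
    simp only [MulEquiv.coe_toMonoidHom, MulAut.conj_apply]
    have hxa : Commute (m' * x * m'⁻¹) a := by
      have := (show Commute x a from mem_centralizer_singleton_iff.1 hx.2).map (MulAut.conj m')
      rwa [MulAut.conj_apply, MulAut.conj_apply, hm'a.eq, mul_inv_cancel_right] at this
    refine ⟨⟨(mem_normalizer_iff.1 (le_normalizer_opc p M hm'M) x).1 hx.1,
      mem_centralizer_singleton_iff.2 hxa.eq⟩, mem_centralizer_singleton_iff.2 ?_⟩
    have hxv : Commute (m' * x * m'⁻¹) (m' * v * m'⁻¹) := by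
      have := (hvA x hx).symm.map (MulAut.conj m')
      rwa [MulAut.conj_apply, MulAut.conj_apply] at this
    rcases hm'v with h | h
    · exact (h ▸ hxv).eq
    · have h1 := (h ▸ hxv).mul_right hxa
      rw [mul_assoc t a a, Invol.invol_mul_self hA.ha, mul_one] at h1
      exact h1.eq
  have heq : A ⊓ centralizer ({t} : Set G) = A := eq_of_le_of_card_ge inf_le_left (by
    rw [Nat.card_congr (equivMapOfInjective A (MulAut.conj m').toMonoidHom
      (MulAut.conj m').injective).toEquiv]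
    exact card_le_of_le hB)
  intro x hx hxa
  exact mem_centralizer_singleton_iff.1 (heq.ge ⟨hx, mem_centralizer_singleton_iff.2 hxa.eq⟩).2

/-- `F(M)` involves two primes. -/
theorem two_primes (hG : Min G) (p : ℕ) : ∃ r : ℕ, r.Prime ∧ r ≠ p ∧ opc r M ≠ ⊥ := by
  by_contra! h
  obtain ⟨q, hq, hq2, hmoved⟩ := hA.exists_moved hG
  haveI := Fact.mk hq
  have hT : opc q M ≠ ⊥ := fun e => hmoved (cmt_eq_bot.2 fun x hx => by
    rw [e, mem_bot] at hx
    rw [hx]
    exact Commute.one_left t)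
  have hqp : q = p := by
    by_contra hne
    exact hT (h q hq hne)
  subst hqp
  have hfit : fit M ≤ opc q M := fit_le fun r hr => by
    by_cases e : r = q
    · rw [e]
    · rw [h r hr e]
      exact bot_le
  refine hmoved (cmt_eq_bot.2 fun x hx => ?_)
  refine mem_centralizer_singleton_iff.1 (le_of_four hA.ht hA.ha hA.hne hA.hc
    (odd_card_of_pGroup hq2 (isPGroup_opc q M)) (le_normalizer_opc q M hA.t_mem)
    (le_normalizer_opc q M hA.a_mem) (fun y _ hy => mem_centralizer_singleton_iff.2 hy.eq)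
    (fun y hy hya => mem_centralizer_singleton_iff.2 (hA.commute_of_one_prime hG hq2 hT hfit y hy hya).eq)
    (fun y hy hya => mem_centralizer_singleton_iff.2
      (hA.symm.commute_of_one_prime hG hq2 hT hfit y hy hya).eq) hx)

end Adm

end CfsgLib.GW.CaseB
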