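import Cfsg.Agent.Lib.GW.CaseB.Unique

/-!
# Gorenstein-Walter, case B: existence of a good pair
-/

set_option autoImplicit false
set_option linter.style.haveILetI false
set_option linter.unusedSectionVars false

open Subgroup
open CfsgLib.Coprime.BenderPair CfsgLib.Coprime.BenderUniqueness

namespace CfsgLib.GW.CaseB

universe u

variable {G : Type u} [Group G] [Finite G]

/-- The layer centralises the odd core. -/
theorem lay_le_centralizer_ocN (N : Subgroup G) : lay N ≤ centralizer (ocN N : Set G) := by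
  have h := CfsgLib.Coprime.layer_commutator_solvable_eq_bot (G := N) (R := Cfsg.oddCore N)
    (CfsgLib.FT.isSolvable_of_odd _ (odd_oddCore N))
    (fun x _ => by rw [normalizer_eq_top]; exact mem_top x)
  have h2 := congrArg (Subgroup.map N.subtype) h
  rw [map_commutator, Subgroup.map_bot] at h2
  exact commutator_eq_bot_iff_le_centralizer.1 h2

/-- The layer is trivial if its Sylow 2-subgroups are cyclic. -/
theorem lay_eq_bot_of_cyclic {N : Subgroup G}
    (h : ∀ Q : Sylow 2 (lay N), IsCyclic (Q : Subgroup (lay N))) : lay N = ⊥ := by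
  haveI : Fact (Nat.Prime 2) := ⟨Nat.prime_two⟩
  obtain ⟨Q⟩ : Nonempty (Sylow 2 (lay N)) := inferInstance
  obtain ⟨R, D, hDn, hcompl⟩ := CfsgLib.Invol.hasNormalPComplement_two_of_isCyclic Q (h Q)
  haveI := hDn
  haveI : Group.IsSolvable D := CfsgLib.FT.isSolvable_of_odd _ (by
    rw [← hcompl.index_eq_card, ← Nat.not_even_iff_odd, even_iff_two_dvd]
    exact R.not_dvd_index)
  haveI : Group.IsSolvable (lay N ⧸ D) := by
    haveI : Group.IsNilpotent (lay N ⧸ D) := by
      obtain ⟨k, hk⟩ := R.2.exists_card_eq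
      exact (IsPGroup.of_card (p := 2) (n := k)
        (by rw [← index_eq_card, hcompl.symm.index_eq_card, hk])).isNilpotent
    infer_instance
  haveI hsol : Group.IsSolvable (lay N) :=
    Group.isSolvable_of_ker_le_range D.subtype (QuotientGroup.mk' D) (by simp)
  haveI : Group.IsSolvable ↥(map N.subtype (Cfsg.layer N)) := hsol
  haveI : Group.IsSolvable (Cfsg.layer N) :=
    Group.isSolvable_of_isSolvable_injective
      (f := ((Cfsg.layer N).equivMapOfInjective N.subtype N.subtype_injective).toMonoidHom)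
      (MulEquiv.injective _)
  rw [lay, Subgroup.map_eq_bot_iff_of_injective _ N.subtype_injective]
  refine le_bot_iff.1 (sSup_le fun L hL => ?_)
  haveI : Group.IsSolvable L := Group.isSolvable_of_isSolvable_injective
    (f := Subgroup.inclusion (CfsgLib.Coprime.component_le_layer hL)) (Subgroup.inclusion_injective _)
  by_contra hne
  haveI : Nontrivial L := (nontrivial_iff_ne_bot L).2 fun e => hne e.le
  refine (Group.IsSolvable.commutator_lt_top_of_nontrivial L).ne (map_injective L.subtype_injective ?_)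
  rw [commutator_def, map_commutator, ← MonoidHom.range_eq_map, range_subtype]
  exact CfsgLib.Coprime.commutator_self_of_isComponent hL

/-- In an overgroup `N` of `C(t)`, `t` inverts every `O_s(N)` that meets an `M ⊇ C(t)` trivially. -/
theorem opc_inverted {t : G} (ht : orderOf t = 2) {M N : Subgroup G}
    (hM : centralizer ({t} : Set G) ≤ M) (htN : t ∈ N) {s : ℕ} [Fact s.Prime]
    (hX : opc s N ⊓ M = ⊥) (hs : s ≠ 2) : ∀ x ∈ opc s N, t * x * t⁻¹ = x⁻¹ := fun x hx => by
  have h := inverts_mod (J := (⊥ : Subgroup G)) (odd_card_of_pGroup hs (isPGroup_opc s N)) ht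
    (le_normalizer_opc s N htN) (fun y hy hyt => hX ▸ ⟨hy, hM (mem_centralizer_singleton_iff.2 hyt.eq)⟩)
    hx (by rw [normalizer_eq_top]; exact mem_top x)
  exact eq_inv_of_mul_eq_one_left (mem_bot.1 h)

/-- `O_2(N)` is trivial if it meets an overgroup of `C(t)` trivially, `t ∈ N`. -/
theorem opc_two_eq_bot {t : G} (ht : orderOf t = 2) {M N : Subgroup G}
    (hM : centralizer ({t} : Set G) ≤ M) (htN : t ∈ N) (hX : opc 2 N ⊓ M = ⊥) : opc 2 N = ⊥ := by
  haveI : Fact (Nat.Prime 2) := ⟨Nat.prime_two⟩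
  by_contra hne
  refine inf_centralizer_ne_bot (P := zpowers t) (IsPGroup.of_card (n := 1) (by
    rw [Nat.card_zpowers, ht, pow_one])) (isPGroup_opc 2 N) hne
    (zpowers_le.2 (le_normalizer_opc 2 N htN)) (le_bot_iff.1 ?_)
  rw [← hX]
  refine le_inf inf_le_left fun x hx => hM (mem_centralizer_singleton_iff.2 ?_)
  exact (mem_centralizer_iff.1 hx.2 t (mem_zpowers t)).symm

/-- An odd subgroup inverted by `t` is `[X, t]`. -/
theorem le_cmt_of_inverted {t : G} (ht : orderOf t = 2) {X : Subgroup G} (hodd : Odd (Nat.card X))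
    (hinv : ∀ x ∈ X, t * x * t⁻¹ = x⁻¹) : X ≤ cmt X t := fun x hx => by
  obtain ⟨y, hy, rfl⟩ := exists_sqrt hodd hx
  have h : y * t * y⁻¹ * t⁻¹ = y * y := by
    rw [show y * t * y⁻¹ * t⁻¹ = y * (t * y⁻¹ * t⁻¹) by group, hinv _ (inv_mem hy), inv_inv]
  exact h ▸ mem_cmt hy

/-- There is a good pair. -/
theorem Adm.exists_good (hG : Min G) {t a : G} {M₀ : Subgroup G} (hA : Adm t a M₀) :
    ∃ (M : Subgroup G) (p : ℕ), Good t a M p := by
  haveI := hG.simple
  obtain ⟨p, hp, hp2, hmoved⟩ := hA.exists_moved hG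
  haveI := Fact.mk hp
  set Q := cmt (opc p M₀) t with hQ
  have hQT : Q ≤ opc p M₀ := cmt_le_self (le_normalizer_opc p M₀ hA.t_mem)
  have hQM : Q ≤ M₀ := hQT.trans (map_subtype_le _)
  obtain ⟨N, hN, hle⟩ := exists_coatom
    (normalizer_ne_top hG hmoved fun e => hA.ne_top (top_le_iff.1 (e ▸ hQM)))
  have hCN : centralizer ({t} : Set G) ≤ N := fun x hx => hle (mem_normalizer_cmt
    (le_normalizer_opc p M₀ (hA.le hx)) (mem_centralizer_singleton_iff.1 hx))
  have htN : t ∈ N := hCN (mem_centralizer_singleton_iff.2 rfl)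
  have haN : a ∈ N := hCN (mem_centralizer_singleton_iff.2 hA.hc.symm.eq)
  by_cases hNM : N = M₀
  · exact ⟨M₀, p, hA, hp, hp2, hmoved, (centralizer_le_normalizer _).trans (hle.trans hNM.le)⟩
  have hFN : fit M₀ ≤ N := fit_le fun q hq => by
    haveI := Fact.mk hq
    refine le_trans ?_ hle
    by_cases hqp : q = p
    · subst hqp
      exact le_normalizer_cmt _ t
    · exact fun x hx => centralizer_le_normalizer _ (mem_centralizer_iff.2 fun y hy =>
        (commute_opc hqp (hQT hy) hx).eq)
  have hQF : Q ≤ fit M₀ := hQT.trans (opc_le_fit p M₀)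
  have hQN : fsc M₀ ⊓ normalizer (Q : Set G) ≤ N := inf_le_right.trans hle
  by_cases hall : ∀ r : ℕ, r.Prime → opc r M₀ = ⊥ → opc r N = ⊥
  · exfalso
    have hfit : fit N ≤ M₀ := fit_le fun q hq => by
      haveI := Fact.mk hq
      by_cases h0 : opc q M₀ = ⊥
      · rw [hall q hq h0]; exact bot_le
      obtain ⟨s, hs, hsq, hs1⟩ := hA.two_primes hG q
      haveI := Fact.mk hs
      exact inside hQF hQN hA.coatom hsq h0 hs1
    have hQO : Q ≤ ocN N := cmt_le fun x hx =>
      commutator_mem_ocN hG hN.1 hA.ht hA.ha hA.hne hA.hc htN haN hp2 (isPGroup_opc p M₀)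
        ((opc_le_fit p M₀).trans hFN) (fun y _ hy => le_normalizer_opc p M₀ (hA.mem_of_commute hy)) hx
    have htl : t ∉ lay N := fun h => hmoved (cmt_eq_bot.2 fun x hx => by
      refine commute_of_cmt_eq_one (eq_one_of_inv_fix (cmt_inverted hA.ht) ?_
        (orderOf_odd_of_mem (odd_card_of_pGroup hp2 (isPGroup_opc p M₀))
          (commutator_mem (le_normalizer_opc p M₀ hA.t_mem) hx)))
      exact (mem_centralizer_iff.1 (lay_le_centralizer_ocN N h) _ (hQO (mem_cmt hx))).symm)
    have hlay : lay N = ⊥ := lay_eq_bot_of_cyclic fun P => by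
      have hd := sylow_dvd_two hG hA.ht hA.ha hA.hne hA.hc hCN (map_subtype_le _)
        (by haveI := CfsgLib.Coprime.layer_normal (G := N); exact le_normalizer_map_subtype N _) htl P
      haveI : Fact (Nat.Prime 2) := ⟨Nat.prime_two⟩
      rcases (Nat.dvd_prime Nat.prime_two).1 hd with h | h
      · haveI : Subsingleton (P : Subgroup (lay N)) := (Nat.card_eq_one_iff_unique.1 h).1
        exact isCyclic_of_subsingleton
      · exact isCyclic_of_prime_card h
    exact hNM (hA.eq_of_mutual hG hN ((hA.fsc_eq_fit hG).le.trans hFN)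
      (fsc_le (hlay.le.trans bot_le) hfit))
  push Not at hall
  obtain ⟨r, hr, hr0, hX1⟩ := hall
  haveI := Fact.mk hr
  have hXM : opc r N ⊓ M₀ = ⊥ := outside hQF hQN hr0
  have hr2 : r ≠ 2 := fun e => by
    subst e
    exact hX1 (opc_two_eq_bot hA.ht hA.le htN hXM)
  have hodd := odd_card_of_pGroup hr2 (isPGroup_opc r N)
  have hinv := opc_inverted hA.ht hA.le htN hXM hr2
  have hX : opc r N ≤ cmt (opc r N) t := le_cmt_of_inverted hA.ht hodd hinv
  have hfix : ∀ x ∈ opc r N, Commute x t → x = 1 := fun x hx hxt =>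
    eq_one_of_inv_fix (hinv x hx) hxt.symm (orderOf_odd_of_mem hodd hx)
  refine ⟨N, r, ⟨hA.ht, hA.ha, hA.hne, hA.hc, hN, hCN, fun m hm => ?_, fun h => ?_⟩, hr, hr2, ?_, ?_⟩
  · exact ⟨ne_of_inverted hG hA.ht hA.ha hA.hne hA.hc hCN hX1 hodd (le_normalizer_opc r N) hinv hm,
      ne_of_inverted hG hA.ht hA.symm.ha hA.symm.hne hA.symm.hc hCN hX1 hodd (le_normalizer_opc r N) hinv hm⟩
  · refine hX1 ((eq_bot_iff_forall _).2 fun x hx => hfix x hx ?_)
    exact mem_centralizer_singleton_iff.1
      (h (le_ocN (map_subtype_le _) (le_normalizer_opc r N) hodd hx))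
  · exact fun e => hX1 (le_bot_iff.1 (e ▸ hX))
  · exact (centralizer_le hX).trans ((centralizer_le_normalizer _).trans
      (norm_eq hN hX1 (map_subtype_le _) (le_normalizer_opc r N)).le)

end CfsgLib.GW.CaseB
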