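import Cfsg.Agent.Lib.GW.CaseB.OnePrime
import Cfsg.Agent.Lib.GW.TypeCInvariant
import Cfsg.Agent.Lib.GW.OddLift

/-!
# Gorenstein-Walter, case B: the uniqueness theorem for a good pair
-/

set_option autoImplicit false
set_option linter.style.haveILetI false
set_option linter.unusedSectionVars false

open Subgroup
open CfsgLib.Coprime.BenderPair CfsgLib.Coprime.BenderUniqueness

namespace CfsgLib.GW.CaseB

universe u

variable {G : Type u} [Group G] [Finite G]

/-- `[R, t] ≤ O(N)` for a `p`-subgroup `R` normalised by `C_N(t)`, four group in `N`. -/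
theorem commutator_mem_ocN (hG : Min G) {N : Subgroup G} (hN : N ≠ ⊤) {t a : G} (ht : orderOf t = 2)
    (ha : orderOf a = 2) (hne : t ≠ a) (hc : Commute t a) (htN : t ∈ N) (haN : a ∈ N) {p : ℕ}
    [Fact p.Prime] (hp : p ≠ 2) {R : Subgroup G} (hR : IsPGroup p R) (hRN : R ≤ N)
    (hn : ∀ x ∈ N, Commute x t → x ∈ normalizer (R : Set G)) {r : G} (hr : r ∈ R) :
    r * t * r⁻¹ * t⁻¹ ∈ ocN N := by
  haveI : Fact (Nat.Prime 2) := ⟨Nat.prime_two⟩
  set O := Cfsg.oddCore N with hO
  set π := QuotientGroup.mk' O with hπ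
  suffices h : (⟨r, hRN hr⟩ : N) * ⟨t, htN⟩ * (⟨r, hRN hr⟩ : N)⁻¹ * (⟨t, htN⟩ : N)⁻¹ ∈ O from ⟨_, h, rfl⟩
  rcases hG.proper_cases hN with ⟨k, hk⟩ | hC
  · have hrO : (⟨r, hRN hr⟩ : N) ∈ O := by
      rw [← QuotientGroup.eq_one_iff (N := O), ← orderOf_eq_one_iff]
      refine Nat.eq_one_of_dvd_coprimes (Nat.Coprime.pow_left k (Nat.coprime_two_left.2
        (orderOf_odd_of_mem (odd_card_of_pGroup hp hR) hr))) ?_ ?_
      · exact (_root_.orderOf_dvd_natCard _).trans (by rw [← index_eq_card, hk])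
      · rw [← Subgroup.orderOf_mk r (hRN hr)]
        exact orderOf_map_dvd π _
    rw [show (⟨r, hRN hr⟩ : N) * ⟨t, htN⟩ * (⟨r, hRN hr⟩ : N)⁻¹ * (⟨t, htN⟩ : N)⁻¹ =
      ⟨r, hRN hr⟩ * ((⟨t, htN⟩ : N) * (⟨r, hRN hr⟩ : N)⁻¹ * (⟨t, htN⟩ : N)⁻¹) by group]
    exact mul_mem hrO (Normal.conj_mem inferInstance _ (inv_mem hrO) _)
  · have hodd := odd_oddCore N
    have ht' : orderOf (⟨t, htN⟩ : N) = 2 := by rw [Subgroup.orderOf_mk, ht]
    have ha' : orderOf (⟨a, haN⟩ : N) = 2 := by rw [Subgroup.orderOf_mk, ha]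
    have hD : DihTwo N := by
      refine (hG.dihLE.subgroup N).cyclic_or_dihTwo.resolve_left ?_
      rintro ⟨S, hS⟩
      have hK := Invol.isKleinFour_closure_pair ht' ha' (fun e => hne (congrArg Subtype.val e))
        (Subtype.ext hc.eq)
      obtain ⟨Q, hQ⟩ := (IsPGroup.of_card (p := 2) (n := 2)
        (by rw [hK.card_four]; norm_num) : IsPGroup 2 (closure ({⟨t, htN⟩, ⟨a, haN⟩} : Set N))).exists_le_sylow
      haveI : IsCyclic (Q : Subgroup N) := (Sylow.equiv Q S).isCyclic.2 hS
      exact hK.not_isCyclic (isCyclic_of_injective (Subgroup.inclusion hQ) (Subgroup.inclusion_injective _))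
    have hDq : DihTwo (N ⧸ O) := dihTwo_quotient hD O (CfsgLib.Coprime.pPrimeCore_not_dvd Nat.prime_two)
    have hat : π ⟨a, haN⟩ ≠ π ⟨t, htN⟩ := fun e => by
      have h1 : (⟨a, haN⟩ : N) * ⟨t, htN⟩ ∈ O := by
        refine (QuotientGroup.eq_one_iff _).1 ?_
        show π (_ * _) = 1
        rw [map_mul, e, ← map_mul, Invol.invol_mul_self ht', map_one]
      have h2 := orderOf_odd_of_mem hodd h1
      rw [invol_mul ha' ht' (fun e' => hne (congrArg Subtype.val e').symm) (Subtype.ext hc.symm.eq)] at h2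
      exact absurd h2 (by decide)
    have h := commute_of_invariant hDq hC hp (R := (R.subgroupOf N).map π)
      ((hR.comap_subtype).map π) (orderOf_mk_invol hodd ht') (orderOf_mk_invol hodd ha') hat
      ((show Commute (⟨t, htN⟩ : N) ⟨a, haN⟩ from Subtype.ext hc.eq).map π) ?_
      (π ⟨r, hRN hr⟩) (mem_map_of_mem _ (mem_subgroupOf.2 hr))
    · refine (QuotientGroup.eq_one_iff _).1 ?_
      show π (_ * _) = 1
      rw [map_mul, map_mul, map_mul, map_inv, map_inv, h.eq, mul_inv_cancel_right, mul_inv_cancel]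
    · intro x hx
      obtain ⟨m, rfl, hm⟩ := exists_comm_lift hodd ht' (mem_centralizer_singleton_iff.1 hx)
      refine le_normalizer_map π ⟨m, ?_, rfl⟩
      have := hn m m.2 (congrArg Subtype.val hm.eq)
      exact mem_normalizer_iff.2 fun y => mem_normalizer_iff.1 this (y : G)

theorem pair_of_coatom (hG : Min G) {M N : Subgroup G} (hM : IsCoatom M) (hN : IsCoatom N) :
    Pair M N := fun A hA hle => by
  haveI := hG.simple
  exact ⟨fun h => by rw [norm_eq hM hA (hle.trans inf_le_left) h, inf_comm],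
    fun h => by rw [norm_eq hN hA (hle.trans inf_le_right) h]⟩

namespace Adm

variable {t a : G} {M : Subgroup G} (hA : Adm t a M)
include hA

/-- `F*(M)` is not a `p`-group. -/
theorem not_pGroup (hG : Min G) {p : ℕ} [Fact p.Prime]
    (h : IsPGroup p (Cfsg.generalizedFittingSubgroup M)) : False := by
  obtain ⟨r, hr, hrp, hne⟩ := hA.two_primes hG p
  haveI := Fact.mk hr
  refine hne ((eq_bot_iff_forall _).2 fun x hx => Subgroup.disjoint_def.1
    (IsPGroup.disjoint_of_ne r p hrp _ _ (isPGroup_opc r M) (h.map M.subtype)) hx ?_)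
  exact opc_le_fsc r M hx

/-- A maximal subgroup in mutual containment with `M` is `M`. -/
theorem eq_of_mutual (hG : Min G) {N : Subgroup G} (hN : IsCoatom N) (h1 : fsc M ≤ N) (h2 : fsc N ≤ M) :
    N = M := by
  by_contra hne
  obtain ⟨p, hp, e, -⟩ := bender_pair (Ne.symm hne) (pair_of_coatom hG hA.coatom hN) h1 h2
  haveI := Fact.mk hp
  exact hA.not_pGroup hG (e ▸ CfsgLib.Coprime.pCore_isPGroup p)

end Adm

/-- A good pair: `[O_p(M), t] ≠ 1` and its centraliser lies in `M`. -/
structure Good (t a : G) (M : Subgroup G) (p : ℕ) : Prop where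
  adm : Adm t a M
  prime : p.Prime
  ne_two : p ≠ 2
  moved : cmt (opc p M) t ≠ ⊥
  cent : centralizer (cmt (opc p M) t : Set G) ≤ M

namespace Good

variable {t a : G} {M : Subgroup G} {p : ℕ} (hg : Good t a M p)
include hg

theorem symm : Good t (t * a) M p := ⟨hg.adm.symm, hg.prime, hg.ne_two, hg.moved, hg.cent⟩

theorem opc_ne_bot : opc p M ≠ ⊥ := fun e => hg.moved (cmt_eq_bot.2 fun x hx => by
  rw [e, mem_bot] at hx
  rw [hx]
  exact Commute.one_left t)

/-- Normalisers of nontrivial invariant subgroups of `F(M)` lie in `M`. -/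
theorem normalizer_le (hG : Min G) {Z : Subgroup G} (hZ : Z ≤ fit M) (hne : Z ≠ ⊥)
    (hF : fit M ≤ normalizer (Z : Set G)) (htZ : t ∈ normalizer (Z : Set G))
    (haZ : a ∈ normalizer (Z : Set G)) : normalizer (Z : Set G) ≤ M := by
  haveI := hG.simple
  haveI := Fact.mk hg.prime
  have hA := hg.adm
  have hZM : Z ≤ M := hZ.trans (map_subtype_le _)
  obtain ⟨N, hN, hle⟩ := exists_coatom
    (normalizer_ne_top hG hne fun e => hA.ne_top (top_le_iff.1 (e ▸ hZM)))
  have hFN : fit M ≤ N := hF.trans hle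
  have hTN : opc p M ≤ N := (opc_le_fit p M).trans hFN
  have hQN : cmt (opc p M) t ≤ ocN N := cmt_le fun x hx =>
    commutator_mem_ocN hG hN.1 hA.ht hA.ha hA.hne hA.hc (hle htZ) (hle haZ) hg.ne_two
      (isPGroup_opc p M) hTN (fun y _ hy => le_normalizer_opc p M (hA.mem_of_commute hy)) hx
  have hlay : lay N ≤ M := by
    refine le_trans ?_ ((centralizer_le hQN).trans' le_rfl |>.trans hg.cent)
    have h := CfsgLib.Coprime.layer_commutator_solvable_eq_bot (G := N) (R := Cfsg.oddCore N)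
      (CfsgLib.FT.isSolvable_of_odd _ (odd_oddCore N))
      (fun x _ => by rw [normalizer_eq_top]; exact mem_top x)
    have h2 := congrArg (Subgroup.map N.subtype) h
    rw [map_commutator, Subgroup.map_bot] at h2
    exact commutator_eq_bot_iff_le_centralizer.1 h2
  have hfit : fit N ≤ M := fit_le fun q hq => by
    haveI := Fact.mk hq
    by_cases hqp : q = p
    · subst hqp
      obtain ⟨r, hr, hrp, hr1⟩ := hA.two_primes hG q
      haveI := Fact.mk hr
      exact inside (Q := Z) (N := N) hZ (inf_le_right.trans hle) hA.coatom hrp hg.opc_ne_bot hr1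
    · refine le_trans ?_ hg.cent
      rw [le_centralizer_iff]
      rcases eq_or_ne q 2 with rfl | hq2
      · refine le_trans hQN fun x hx => mem_centralizer_iff.2 fun y hy => ?_
        have hd : Disjoint (opc 2 N) (ocN N) := by
          refine disjoint_of_coprime ?_
          obtain ⟨k, hk⟩ := (isPGroup_opc 2 N).exists_card_eq
          rw [hk]
          exact Nat.Coprime.pow_left k (Nat.coprime_two_left.2 (odd_ocN N))
        exact (commute_of_disjoint hd hy hx (le_normalizer_ocN N (map_subtype_le _ hy))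
          (le_normalizer_opc 2 N (ocN_le N hx))).eq
      · refine cmt_le fun x hx => mem_centralizer_iff.2 fun y hy => ?_
        exact (trick hA.ht hA.le hg.ne_two hq2 hqp (hle htZ)
          (commutator_mem (le_normalizer_opc p M hA.t_mem) hx)
          (ocN_le N (hQN (mem_cmt hx))) (cmt_inverted hA.ht) y hy).eq
  have h := hA.eq_of_mutual hG hN ((hA.fsc_eq_fit hG).le.trans hFN) (fsc_le hlay hfit)
  exact h ▸ hle

/-- No conjugate `M' ≠ M` contains a suitable central subgroup and the `O_r(M)`, `r ≠ p`. -/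
theorem false_of_conj (hG : Min G) {e : G} (he : e ∉ M) {Z : Subgroup G} (hZ : Z ≤ ctr p M)
    (hne : Z ≠ ⊥) (htZ : t ∈ normalizer (Z : Set G)) (haZ : a ∈ normalizer (Z : Set G))
    (hZ' : Z ≤ M.map (MulAut.conj e).toMonoidHom)
    (hW : ∀ r : ℕ, r.Prime → r ≠ p → opc r M ≤ M.map (MulAut.conj e).toMonoidHom) : False := by
  haveI := hG.simple
  haveI := Fact.mk hg.prime
  have hA := hg.adm
  have hA' := hA.conj e
  set M' := M.map (MulAut.conj e).toMonoidHom with hM'
  have hopc : ∀ r : ℕ, opc r M = ⊥ → opc r M' = ⊥ := fun r h => by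
    rw [hM', opc_map, h, Subgroup.map_bot]
  have hZT : Z ≤ opc p M := hZ.trans inf_le_left
  have hcomm : ∀ r : ℕ, r.Prime → r ≠ p → opc r M ≤ centralizer (Z : Set G) := fun r hr hrp x hx =>
    mem_centralizer_iff.2 fun z hz => by
      haveI := Fact.mk hr
      exact (commute_opc hrp (hZT hz) hx).eq
  have hFZ : fit M ≤ centralizer (Z : Set G) := fit_le fun r hr => by
    by_cases hrp : r = p
    · subst hrp
      exact fun x hx => mem_centralizer_iff.2 fun z hz => (mem_centralizer_iff.1 (hZ hz).2 x hx).symm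
    · exact hcomm r hr hrp
  have hCZ : centralizer (Z : Set G) ≤ M := (centralizer_le_normalizer _).trans
    (hg.normalizer_le hG (hZT.trans (opc_le_fit p M)) hne (hFZ.trans (centralizer_le_normalizer _)) htZ haZ)
  have hCW : ∀ (r : ℕ) [Fact r.Prime], opc r M ≠ ⊥ → centralizer (opc r M : Set G) ≤ M := fun r _ h =>
    (centralizer_le_normalizer _).trans
      (norm_eq hA.coatom h (map_subtype_le _) (le_normalizer_opc r M)).le
  have hR : ∀ r : ℕ, r.Prime → r ≠ p → opc r M' ≤ M := fun r hr hrp => by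
    haveI := Fact.mk hr
    by_cases h0 : opc r M = ⊥
    · rw [hopc r h0]
      exact bot_le
    refine le_trans ?_ hCZ
    rw [le_centralizer_iff]
    refine CfsgLib.Coprime.pq_lemma (P := opc r M) (isPGroup_opc r M) ?_ (isPGroup_opc r M')
      (hcomm r hr hrp) ((hW r hr hrp).trans (le_normalizer_opc r M'))
      (hZ'.trans (le_normalizer_opc r M')) fun x hx => mem_centralizer_iff.2 fun z hz => ?_
    · obtain ⟨k, hk⟩ := ((isPGroup_opc p M).to_le hZT).exists_card_eq
      rw [hk]
      exact Nat.Coprime.pow_left k ((Nat.coprime_primes Fact.out Fact.out).2 hrp.symm)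
    · exact (commute_of_disjoint
        (IsPGroup.disjoint_of_ne r p hrp _ _ (isPGroup_opc r M') (isPGroup_opc p M)) hx.1 (hZT hz)
        (le_normalizer_opc p M (hCW r h0 hx.2)) (le_normalizer_opc r M' (hZ' hz))).eq.symm
  obtain ⟨r, hr, hrp, hr1⟩ := hA.two_primes hG p
  haveI := Fact.mk hr
  have hP : opc p M' ≤ M := by
    refine le_trans ?_ (hCW r hr1)
    rw [le_centralizer_iff]
    refine CfsgLib.Coprime.pq_lemma (P := Z) ((isPGroup_opc p M).to_le hZT) ?_ (isPGroup_opc p M')
      (le_centralizer_iff.1 (hcomm r hr hrp)) (hZ'.trans (le_normalizer_opc p M'))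
      ((hW r hr hrp).trans (le_normalizer_opc p M')) fun x hx => mem_centralizer_iff.2 fun w hw => ?_
    · obtain ⟨k, hk⟩ := (isPGroup_opc r M).exists_card_eq
      rw [hk]
      exact Nat.Coprime.pow_left k ((Nat.coprime_primes Fact.out Fact.out).2 hrp)
    · exact (commute_of_disjoint
        (IsPGroup.disjoint_of_ne p r hrp.symm _ _ (isPGroup_opc p M') (isPGroup_opc r M)) hx.1 hw
        (le_normalizer_opc r M (hCZ hx.2)) (le_normalizer_opc p M' (hW r hr hrp hw))).eq.symm
  have hfit' : fit M' ≤ M := fit_le fun q hq => by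
    by_cases hqp : q = p
    · exact hqp ▸ hP
    · exact hR q hq hqp
  have hfit : fit M ≤ M' := fit_le fun q hq => by
    haveI := Fact.mk hq
    by_cases h0 : opc q M = ⊥
    · rw [h0]; exact bot_le
    obtain ⟨s, hs, hsq, hs1⟩ := hA'.two_primes hG q
    haveI := Fact.mk hs
    refine inside (Q := (⊥ : Subgroup G)) (N := M) bot_le
      (inf_le_left.trans ((hA'.fsc_eq_fit hG).le.trans hfit')) hA'.coatom hsq ?_ hs1
    rw [opc_map, Ne, Subgroup.map_eq_bot_iff_of_injective _ (MulAut.conj e).injective]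
    exact h0
  exact hA.conj_ne hG he (hA.eq_of_mutual hG hA'.coatom ((hA.fsc_eq_fit hG).le.trans hfit)
    ((hA'.fsc_eq_fit hG).le.trans hfit'))

end Good

end CfsgLib.GW.CaseB
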